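import Groth.Prelude.Def_RootCh
import Mathlib.LinearAlgebra.RootSystem.BaseExists
import Mathlib.Algebra.Order.BigOperators.Ring.Finset
import Mathlib.Data.Sign.Basic
set_option linter.unusedSectionVars false
set_option linter.style.haveILetI false
set_option linter.unusedSimpArgs false

/-!
Basic geometry of chambers of a finite reduced crystallographic root system over an ordered field.
-/

noncomputable section

open Module Set

namespace Groth.Agent.RootChLib

universe u v w x

variable {ι : Type u} {R : Type v} {M : Type w} {N : Type x}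
variable [Field R] [LinearOrder R] [IsStrictOrderedRing R]
variable [AddCommGroup M] [Module R M] [AddCommGroup N] [Module R N] [Finite ι]
variable {P : RootPairing ι R M N}

lemma exists_small (a c : ι → R) :
    ∃ t : R, 0 < t ∧ ∀ i, a i ≠ 0 → SignType.sign (a i + t * c i) = SignType.sign (a i) := by
  classical
  have : Fintype ι := Fintype.ofFinite ι
  suffices ∀ s : Finset ι, ∃ t : R, 0 < t ∧ ∀ i ∈ s, a i ≠ 0 → t * |c i| < |a i| by
    obtain ⟨t, ht, h⟩ := this Finset.univ
    refine ⟨t, ht, fun i hi => ?_⟩
    have h1 := h i (Finset.mem_univ i) hi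
    have h2 : |t * c i| < |a i| := by rw [abs_mul, abs_of_pos ht]; exact h1
    rcases lt_or_gt_of_ne hi with hneg | hpos
    · rw [abs_of_neg hneg] at h2
      rw [sign_neg hneg, sign_neg]
      linarith [le_abs_self (t * c i)]
    · rw [abs_of_pos hpos] at h2
      rw [sign_pos hpos, sign_pos]
      linarith [neg_abs_le (t * c i)]
  intro s
  induction s using Finset.induction with
  | empty => exact ⟨1, one_pos, by simp⟩
  | insert j s hj ih =>
    obtain ⟨t, ht, h⟩ := ih
    obtain ⟨t', ht', h'⟩ : ∃ t' : R, 0 < t' ∧ (a j ≠ 0 → t' * |c j| < |a j|) := by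
      by_cases hj0 : a j = 0
      · exact ⟨1, one_pos, fun h => absurd hj0 h⟩
      · refine ⟨|a j| / (|c j| + 1), by positivity, fun _ => ?_⟩
        rw [div_mul_eq_mul_div, div_lt_iff₀ (by positivity)]
        nlinarith [abs_pos.mpr hj0]
    refine ⟨min t t', lt_min ht ht', fun i hi hi0 => ?_⟩
    rcases Finset.mem_insert.1 hi with rfl | hi
    · exact lt_of_le_of_lt (mul_le_mul_of_nonneg_right (min_le_right _ _) (abs_nonneg _)) (h' hi0)
    · exact lt_of_le_of_lt (mul_le_mul_of_nonneg_right (min_le_left _ _) (abs_nonneg _)) (h i hi hi0)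

section Neg

omit [Finite ι] in
lemma root_neg (i : ι) : P.root (P.reflectionPerm i i) = -P.root i := by
  rw [P.root_reflectionPerm, P.reflection_apply_self]

omit [Finite ι] in
lemma coroot_neg (i : ι) : P.coroot (P.reflectionPerm i i) = -P.coroot i := by
  rw [P.coroot_reflectionPerm, P.coreflection_apply_self]

omit [Finite ι] in
lemma root'_neg (i : ι) (x : N) : P.root' (P.reflectionPerm i i) x = -P.root' i x := by
  simp only [RootPairing.root', root_neg, map_neg, LinearMap.neg_apply]

omit [Finite ι] in
lemma coroot'_neg (i : ι) (x : M) : P.coroot' (P.reflectionPerm i i) x = -P.coroot' i x := by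
  simp only [RootPairing.coroot', coroot_neg, map_neg, LinearMap.neg_apply]

omit [Finite ι] in
lemma neg_neg_index (i : ι) :
    P.reflectionPerm (P.reflectionPerm i i) (P.reflectionPerm i i) = i := by
  let := P.indexNeg
  exact neg_neg i

end Neg

section Pol

variable (P) in
/-- The canonical invariant map from weight space to coweight space. -/
def pol : M →ₗ[R] N :=
  letI := Fintype.ofFinite ι
  P.Polarization

variable (P) in
/-- The invariant form on the weight space. -/
def G (ξ η : M) : R := P.toLinearMap η (pol P ξ)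

lemma G_eq_sum [Fintype ι] (ξ η : M) : G P ξ η = ∑ i, P.coroot' i ξ * P.coroot' i η := by
  unfold G pol
  rw [Subsingleton.elim (Fintype.ofFinite ι) ‹Fintype ι›, P.toLinearMap_apply_apply_Polarization,
    P.rootForm_apply_apply]

lemma G_symm (ξ η : M) : G P ξ η = G P η ξ := by
  have := Fintype.ofFinite ι
  simp only [G_eq_sum, mul_comm]

lemma G_nonneg (ξ : M) : 0 ≤ G P ξ ξ := by
  have := Fintype.ofFinite ι
  rw [G_eq_sum]
  exact Finset.sum_nonneg fun i _ => mul_self_nonneg _

variable [P.IsRootSystem]

lemma eq_zero_of_coroot' {ξ : M} (h : ∀ i, P.coroot' i ξ = 0) : ξ = 0 := by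
  apply (P.toPerfPair).injective
  rw [map_zero]
  refine LinearMap.ext_on (RootPairing.IsRootSystem.span_coroot_eq_top (P := P)) ?_
  rintro - ⟨i, rfl⟩
  simpa using h i

lemma G_pos {ξ : M} (h : ξ ≠ 0) : 0 < G P ξ ξ := by
  have := Fintype.ofFinite ι
  refine lt_of_le_of_ne (G_nonneg ξ) fun h0 => h (eq_zero_of_coroot' (P := P) fun i => ?_)
  rw [G_eq_sum, eq_comm] at h0
  exact mul_self_eq_zero.1
    ((Finset.sum_eq_zero_iff_of_nonneg fun j _ => mul_self_nonneg _).1 h0 i (Finset.mem_univ i))

variable (P) in
/-- Squared length of a root. -/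
def qn (i : ι) : R := G P (P.root i) (P.root i)

lemma qn_pos (i : ι) : 0 < qn P i := G_pos (P.ne_zero i)

omit [P.IsRootSystem] in
lemma qn_smul_coroot (i : ι) : qn P i • P.coroot i = (2 : R) • pol P (P.root i) := by
  let := Fintype.ofFinite ι
  have h := P.rootForm_self_smul_coroot i
  rw [← P.toLinearMap_apply_apply_Polarization, ← Nat.cast_smul_eq_nsmul R, Nat.cast_ofNat] at h
  exact h

omit [P.IsRootSystem] in
lemma two_root'_pol (i : ι) (ξ : M) : 2 * P.root' i (pol P ξ) = qn P i * P.coroot' i ξ := by
  have h := congrArg (fun y => P.toLinearMap ξ y) (qn_smul_coroot (P := P) i)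
  simp only [map_smul, smul_eq_mul] at h
  change 2 * G P ξ (P.root i) = _
  rw [G_symm]
  exact h.symm

lemma root'_pol (i : ι) (ξ : M) : P.root' i (pol P ξ) = qn P i / 2 * P.coroot' i ξ := by
  linarith [two_root'_pol (P := P) i ξ]

lemma sgnVec_eq_cosgnVec (ξ : M) : RootCh.sgnVec P ξ = RootCh.cosgnVec P (pol P ξ) := by
  funext i
  simp only [RootCh.sgnVec, RootCh.cosgnVec, root'_pol, sign_mul,
    sign_pos (show (0 : R) < qn P i / 2 by linarith [qn_pos (P := P) i]), one_mul]

lemma pol_injective : Function.Injective (pol P) := by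
  rw [← LinearMap.ker_eq_bot, eq_bot_iff]
  intro ξ hξ
  by_contra h
  exact (G_pos (P := P) h).ne' (by simp [G, LinearMap.mem_ker.1 hξ])

lemma pol_bijective [P.IsCrystallographic] : Function.Bijective (pol P) := by
  let := Fintype.ofFinite ι
  have h : (P.PolarizationEquiv : M → N) = pol P := by
    funext m
    exact P.polarizationEquiv_apply m
  rw [← h]
  exact P.PolarizationEquiv.bijective

variable (P) in
/-- `pol` as an equivalence. -/
def polE [P.IsCrystallographic] : M ≃ₗ[R] N := LinearEquiv.ofBijective (pol P) pol_bijective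

@[simp] lemma polE_apply [P.IsCrystallographic] (ξ : M) : polE P ξ = pol P ξ := rfl

end Pol

section Positive

variable [P.IsCrystallographic] {b : P.Base}

omit [Finite ι] [LinearOrder R] [IsStrictOrderedRing R] [P.IsCrystallographic] in
lemma root'_add {i j k : ι} (h : P.root k = P.root i + P.root j) (x : N) :
    P.root' k x = P.root' i x + P.root' j x := by
  simp only [RootPairing.root', h, map_add, LinearMap.add_apply]

lemma root'_nonneg_of_isPos {x : N} (hx : ∀ j ∈ b.support, 0 ≤ P.root' j x) {i : ι}
    (hi : b.IsPos i) : 0 ≤ P.root' i x :=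
  hi.induction_on_add (p := fun i => 0 ≤ P.root' i x) hx fun _ j _ hk h hj => by
    rw [root'_add hk]
    exact add_nonneg h (hx j hj)

lemma root'_pos_of_isPos {x : N} (hx : ∀ j ∈ b.support, 0 < P.root' j x) {i : ι}
    (hi : b.IsPos i) : 0 < P.root' i x :=
  hi.induction_on_add (p := fun i => 0 < P.root' i x) hx fun _ j _ hk h hj => by
    rw [root'_add hk]
    exact add_pos h (hx j hj)

omit [Finite ι] [P.IsCrystallographic] in
lemma isPos_neg_iff (b : P.Base) (i : ι) : b.IsPos (P.reflectionPerm i i) ↔ ¬ b.IsPos i :=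
  RootPairing.Base.IsPos.neg_iff_not b i

lemma isPos_iff_root'_pos {x : N} (hx : ∀ j ∈ b.support, 0 < P.root' j x) (i : ι) :
    b.IsPos i ↔ 0 < P.root' i x := by
  refine ⟨root'_pos_of_isPos hx, fun h => ?_⟩
  by_contra hn
  have := root'_pos_of_isPos hx ((isPos_neg_iff b i).2 hn)
  rw [root'_neg] at this
  linarith

lemma root'_ne_zero_of_chamber {x : N} (hx : ∀ j ∈ b.support, 0 < P.root' j x) (i : ι) :
    P.root' i x ≠ 0 := by
  intro h
  by_cases hp : b.IsPos i
  · exact (root'_pos_of_isPos hx hp).ne' h
  · have := root'_pos_of_isPos hx ((isPos_neg_iff b i).2 hp)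
    rw [root'_neg, h, neg_zero] at this
    exact lt_irrefl _ this

variable [P.IsReduced]

omit [P.IsReduced] in
lemma base_ext {b b' : P.Base} (h : b.support = b'.support) : b = b' := by
  cases b; cases b'; simp only at h; subst h; rfl

lemma mem_support_of_isPos_imp {b b' : P.Base} (h : ∀ i, b'.IsPos i → b.IsPos i)
    {i : ι} (hi : i ∈ b.support) (hi' : b'.IsPos i) : i ∈ b'.support := by
  have key : b.IsPos i ∧ (b.height i = 1 → i ∈ b'.support) :=
    hi'.induction_on_add (p := fun i => b.IsPos i ∧ (b.height i = 1 → i ∈ b'.support))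
      (fun j hj => ⟨h j (RootPairing.Base.isPos_of_mem_support hj), fun _ => hj⟩)
      fun k j l hl hk hj => by
        have hjp := h j (RootPairing.Base.isPos_of_mem_support hj)
        refine ⟨RootPairing.Base.IsPos.add hk.1 hjp hl, fun h1 => ?_⟩
        have := b.height_add hl
        have h2 : 0 < b.height k := hk.1
        have h3 : 0 < b.height j := hjp
        omega
  exact key.2 (RootPairing.Base.height_one_of_mem_support hi)

omit [P.IsReduced] in
lemma isPos_iff_of_imp {b b' : P.Base} (h : ∀ i, b.IsPos i → b'.IsPos i) (i : ι) :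
    b.IsPos i ↔ b'.IsPos i := by
  refine ⟨h i, fun hi => ?_⟩
  by_contra hn
  exact (isPos_neg_iff b' i).1 (h _ ((isPos_neg_iff b i).2 hn)) hi

lemma base_eq_of_isPos_imp {b b' : P.Base} (h : ∀ i, b.IsPos i → b'.IsPos i) : b = b' := by
  have e := isPos_iff_of_imp h
  refine base_ext (Finset.ext fun i => ⟨fun hi => ?_, fun hi => ?_⟩)
  · exact mem_support_of_isPos_imp (fun j => (e j).2) hi
      ((e i).1 (RootPairing.Base.isPos_of_mem_support hi))
  · exact mem_support_of_isPos_imp h hi ((e i).2 (RootPairing.Base.isPos_of_mem_support hi))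

lemma finite_base : Finite P.Base :=
  Finite.of_injective (fun b : P.Base => b.support) fun _ _ h => base_ext h

variable [P.IsRootSystem]

omit [P.IsReduced] in
lemma linearIndepOn_baseOf (x : N) (hx : ∀ i, P.root' i x ≠ 0) :
    LinearIndepOn R P.root
      (IsAddIndecomposable.baseOf P.root ((P.toLinearMap.flip x : M →ₗ[R] R) : M →+ R)) :=
  P.linearIndepOn_root_baseOf' (S := R) (P.toLinearMap.flip x) hx

/-- The base attached to a regular vector of the coweight space. -/
def baseOfVec (x : N) (hx : ∀ i, P.root' i x ≠ 0) : P.Base :=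
  RootPairing.Base.mk' P
    (IsAddIndecomposable.baseOf P.root ((P.toLinearMap.flip x : M →ₗ[R] R) : M →+ R))
    (linearIndepOn_baseOf x hx)
    (fun i => by
      letI := P.indexNeg
      exact IsAddIndecomposable.mem_or_neg_mem_closure_baseOf P.root _ i (by simpa using hx i)
        (by simp))

lemma baseOfVec_simple_pos (x : N) (hx : ∀ i, P.root' i x ≠ 0) :
    ∀ j ∈ (baseOfVec x hx).support, 0 < P.root' j x := by
  intro j hj
  simp only [baseOfVec, RootPairing.Base.mk', Set.Finite.mem_toFinset] at hj
  exact IsAddIndecomposable.baseOf_subset_pos P.root _ hj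

lemma isPos_baseOfVec (x : N) (hx : ∀ i, P.root' i x ≠ 0) (i : ι) :
    (baseOfVec x hx).IsPos i ↔ 0 < P.root' i x :=
  isPos_iff_root'_pos (baseOfVec_simple_pos x hx) i

end Positive

end Groth.Agent.RootChLib

end
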