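import Mathlib.Analysis.Convex.Combination
import Mathlib.LinearAlgebra.BilinearMap
import Mathlib.LinearAlgebra.Dual.Lemmas
set_option linter.unusedSectionVars false
set_option linter.unusedSimpArgs false

/-!
Nearest point of a polytope for a positive definite form over an ordered field.
-/

noncomputable section

namespace Groth.Agent.RootChLib

universe v x

variable {R : Type v} {N : Type x} [Field R] [LinearOrder R] [IsStrictOrderedRing R]
  [AddCommGroup N] [Module R N] [FiniteDimensional R N]
  {B : N →ₗ[R] N →ₗ[R] R}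

lemma exists_orth (hBp : ∀ y : N, y ≠ 0 → 0 < B y y) (D : Submodule R N) (q : N) :
    ∃ d ∈ D, ∀ d' ∈ D, B (q + d) d' = 0 := by
  let f : D →ₗ[R] Module.Dual R D := B.compl₁₂ D.subtype D.subtype
  have hf : ∀ a c : D, f a c = B a c := fun _ _ => rfl
  have hinj : Function.Injective f := by
    rw [← LinearMap.ker_eq_bot, eq_bot_iff]
    intro a ha
    by_contra h
    have h0 : (a : N) ≠ 0 := fun e => h (by simpa using e)
    have := hBp _ h0
    rw [← hf, LinearMap.mem_ker.1 ha] at this
    simp at this
  obtain ⟨d, hd⟩ := (LinearMap.injective_iff_surjective_of_finrank_eq_finrank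
    (Subspace.dual_finrank_eq (K := R) (V := D)).symm).1 hinj (-((B q).comp D.subtype))
  refine ⟨d, d.2, fun d' hd' => ?_⟩
  have := LinearMap.congr_fun hd ⟨d', hd'⟩
  rw [hf] at this
  simp only [LinearMap.neg_apply, LinearMap.comp_apply, Submodule.subtype_apply] at this
  rw [map_add, LinearMap.add_apply, this]
  ring

lemma exists_nearest (hBs : ∀ y z : N, B y z = B z y) (hBp : ∀ y : N, y ≠ 0 → 0 < B y y)
    (z : N) (s : Finset N) (hs : s.Nonempty) :
    ∃ y ∈ convexHull R (s : Set N), ∀ w ∈ convexHull R (s : Set N),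
      B (y - z) (y - z) ≤ B (w - z) (w - z) := by
  classical
  induction s using Finset.strongInduction with
  | H s ih =>
    obtain ⟨s0, hs0⟩ := hs
    let D := Submodule.span R (Set.range fun x : s => (x : N) - s0)
    obtain ⟨d, hd, horth⟩ := exists_orth hBp D (s0 - z)
    obtain ⟨a, ha⟩ := (Submodule.mem_span_range_iff_exists_fun R).1 hd
    let a' : N → R := fun x => if h : x ∈ s then a ⟨x, h⟩ else 0
    let v : N → R := fun x => a' x + if x = s0 then 1 - ∑ y ∈ s, a' y else 0
    have hv1 : ∑ x ∈ s, v x = 1 := by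
      simp only [v, Finset.sum_add_distrib, Finset.sum_ite_eq', hs0, if_true]
      ring
    have hd' : ∑ x ∈ s, a' x • (x - s0) = d := by
      rw [← ha, ← Finset.sum_coe_sort s (fun x => a' x • (x - s0))]
      exact Finset.sum_congr rfl fun x _ => by simp [a', x.2]
    have hvp : ∑ x ∈ s, v x • x = s0 + d := by
      simp only [v, add_smul, ite_smul, zero_smul, Finset.sum_add_distrib, Finset.sum_ite_eq', hs0,
        if_true, ← hd', smul_sub, Finset.sum_sub_distrib, ← Finset.sum_smul, sub_smul, one_smul]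
      abel
    have hexp : ∀ w : N, w - (s0 + d) ∈ D → ∀ c : R,
        B ((s0 + d - z) + c • (w - (s0 + d))) ((s0 + d - z) + c • (w - (s0 + d))) =
          B (s0 + d - z) (s0 + d - z) + c ^ 2 * B (w - (s0 + d)) (w - (s0 + d)) := by
      intro w hw c
      have h0 : B (s0 + d - z) (w - (s0 + d)) = 0 := by
        have := horth _ hw
        rwa [show s0 - z + d = s0 + d - z by abel] at this
      have h1 : B (w - (s0 + d)) (s0 + d - z) = 0 := by rw [hBs]; exact h0
      simp only [map_add, LinearMap.add_apply, map_smul, LinearMap.smul_apply, smul_eq_mul, h0, h1]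
      ring
    have hnonneg : ∀ w : N, 0 ≤ B w w := fun w => by
      rcases eq_or_ne w 0 with rfl | h
      · simp
      · exact (hBp w h).le
    have hmemD : ∀ u : N → R, ∑ x ∈ s, u x = 1 → ∑ x ∈ s, u x • x - (s0 + d) ∈ D := by
      intro u hu
      have h2 : ∑ x ∈ s, u x • x - s0 = ∑ x ∈ s, u x • (x - s0) := by
        simp [smul_sub, Finset.sum_sub_distrib, ← Finset.sum_smul, hu]
      rw [← sub_sub, h2]
      refine D.sub_mem (Submodule.sum_mem _ fun x hx => D.smul_mem _ ?_) hd
      exact Submodule.subset_span ⟨⟨x, hx⟩, rfl⟩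
    by_cases hpos : ∀ x ∈ s, 0 ≤ v x
    · refine ⟨s0 + d, Finset.mem_convexHull'.2 ⟨v, hpos, hv1, hvp⟩, fun w hw => ?_⟩
      obtain ⟨u, _, hu1, rfl⟩ := Finset.mem_convexHull'.1 hw
      have := hexp _ (hmemD u hu1) 1
      rw [one_smul, show s0 + d - z + (∑ x ∈ s, u x • x - (s0 + d)) = ∑ x ∈ s, u x • x - z by abel]
        at this
      rw [this]
      linarith [hnonneg (∑ x ∈ s, u x • x - (s0 + d))]
    · push Not at hpos
      have hsub : ∀ x : N, x ∈ s → (s.erase x).Nonempty → ∃ y ∈ convexHull R (s : Set N),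
          ∀ w ∈ convexHull R (↑(s.erase x) : Set N), B (y - z) (y - z) ≤ B (w - z) (w - z) := by
        intro x hx hne
        obtain ⟨y, hy, hmin⟩ := ih _ (Finset.erase_ssubset hx) hne
        exact ⟨y, convexHull_mono (Finset.coe_subset.2 (Finset.erase_subset _ _)) hy, hmin⟩
      let f : N → N := fun x =>
        if h : x ∈ s ∧ (s.erase x).Nonempty then (hsub x h.1 h.2).choose else s0
      have hf : ∀ x, f x ∈ convexHull R (s : Set N) := by
        intro x
        simp only [f]
        split
        · rename_i h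
          exact (hsub x h.1 h.2).choose_spec.1
        · exact subset_convexHull R _ hs0
      obtain ⟨x1, -, hx1⟩ :=
        Finset.exists_min_image s (fun x => B (f x - z) (f x - z)) ⟨s0, hs0⟩
      refine ⟨f x1, hf x1, fun w hw => ?_⟩
      obtain ⟨u, hu0, hu1, rfl⟩ := Finset.mem_convexHull'.1 hw
      obtain ⟨xn, hxn, hvn⟩ := hpos
      obtain ⟨x0, hx0, hmin⟩ := Finset.exists_min_image (s.filter fun x => v x < 0)
        (fun x => u x / (u x - v x)) ⟨xn, Finset.mem_filter.2 ⟨hxn, hvn⟩⟩
      rw [Finset.mem_filter] at hx0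
      set t := u x0 / (u x0 - v x0) with ht
      have hden : 0 < u x0 - v x0 := by linarith [hu0 x0 hx0.1, hx0.2]
      have ht0 : 0 ≤ t := div_nonneg (hu0 x0 hx0.1) hden.le
      have ht1 : t ≤ 1 := by rw [ht, div_le_one hden]; linarith [hx0.2]
      let u' : N → R := fun x => u x + t * (v x - u x)
      have hu'0 : u' x0 = 0 := by
        simp only [u', ht]
        field_simp
        ring
      have hu'pos : ∀ x ∈ s, 0 ≤ u' x := by
        intro x hx
        simp only [u']
        by_cases hvx : v x < 0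
        · have h1 := hmin x (Finset.mem_filter.2 ⟨hx, hvx⟩)
          have h2 : 0 < u x - v x := by linarith [hu0 x hx]
          rw [le_div_iff₀ h2] at h1
          linarith
        · push Not at hvx
          nlinarith [hu0 x hx, mul_nonneg ht0 hvx, mul_nonneg (sub_nonneg.2 ht1) (hu0 x hx)]
      have hu'1 : ∑ x ∈ s, u' x = 1 := by
        simp only [u', Finset.sum_add_distrib, ← Finset.mul_sum, Finset.sum_sub_distrib, hu1, hv1,
          sub_self, mul_zero, add_zero]
      have hu'sum : ∑ x ∈ s, u' x • x =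
          (∑ x ∈ s, u x • x) + t • ((s0 + d) - ∑ x ∈ s, u x • x) := by
        simp only [u', add_smul, mul_smul, sub_smul, Finset.sum_add_distrib, ← Finset.smul_sum,
          Finset.sum_sub_distrib, hvp]
      have herase : ∑ x ∈ s.erase x0, u' x = 1 := by
        rw [Finset.sum_erase _ hu'0, hu'1]
      have hne : (s.erase x0).Nonempty := by
        rw [Finset.nonempty_iff_ne_empty]
        intro h
        rw [h, Finset.sum_empty] at herase
        exact zero_ne_one herase
      have hw' : ∑ x ∈ s, u' x • x ∈ convexHull R (↑(s.erase x0) : Set N) :=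
        Finset.mem_convexHull'.2 ⟨u', fun x hx => hu'pos x (Finset.mem_of_mem_erase hx), herase,
          Finset.sum_erase _ (by rw [hu'0, zero_smul])⟩
      have h3 := hx1 x0 hx0.1
      have h4 : B (f x0 - z) (f x0 - z) ≤ B (∑ x ∈ s, u' x • x - z) (∑ x ∈ s, u' x • x - z) := by
        simp only [f]
        rw [dif_pos ⟨hx0.1, hne⟩]
        exact (hsub x0 hx0.1 hne).choose_spec.2 _ hw'
      set w := ∑ x ∈ s, u x • x with hwdef
      have hD : w - (s0 + d) ∈ D := hmemD u hu1
      have hsplit : ∑ x ∈ s, u' x • x - z = (s0 + d - z) + (1 - t) • (w - (s0 + d)) := by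
        rw [hu'sum, sub_smul, one_smul, smul_sub t, smul_sub t]
        abel
      have hw1 : w - z = (s0 + d - z) + (1 : R) • (w - (s0 + d)) := by rw [one_smul]; abel
      calc B (f x1 - z) (f x1 - z) ≤ _ := h3
        _ ≤ _ := h4
        _ ≤ B (w - z) (w - z) := by
          rw [hsplit, hw1, hexp w hD, hexp w hD]
          have := hnonneg (w - (s0 + d))
          nlinarith [mul_le_mul_of_nonneg_right
            (show (1 - t) ^ 2 ≤ 1 ^ 2 from pow_le_pow_left₀ (by linarith) (by linarith) 2) this]

lemma nearest_inner (hBs : ∀ y z : N, B y z = B z y) {K : Set N} (hK : Convex R K) {z y : N}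
    (hy : y ∈ K) (hmin : ∀ w ∈ K, B (y - z) (y - z) ≤ B (w - z) (w - z)) {w : N} (hw : w ∈ K) :
    0 ≤ B (y - z) (w - y) := by
  by_contra h
  push Not at h
  set a := B (y - z) (w - y) with ha
  set c := B (w - y) (w - y) with hc
  let t := min 1 (-a / (|c| + 1))
  have ht : 0 < t := lt_min one_pos (div_pos (neg_pos.2 h) (by positivity))
  have hmem := hK.add_smul_sub_mem hy hw ⟨ht.le, min_le_left _ _⟩
  have h1 := hmin _ hmem
  have e : y + t • (w - y) - z = (y - z) + t • (w - y) := by abel
  rw [e] at h1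
  simp only [map_add, LinearMap.add_apply, map_smul, LinearMap.smul_apply, smul_eq_mul,
    hBs (w - y) (y - z), ← ha, ← hc] at h1
  have h2 : t * (|c| + 1) ≤ -a := by
    rw [← le_div_iff₀ (by positivity)]
    exact min_le_right _ _
  nlinarith [mul_le_mul_of_nonneg_left (le_abs_self c) (mul_nonneg ht.le ht.le),
    mul_pos ht (neg_pos.2 h)]

lemma exists_separating (hBs : ∀ y z : N, B y z = B z y) (hBp : ∀ y : N, y ≠ 0 → 0 < B y y)
    {s : Set N} (hs : s.Finite) (hne : s.Nonempty) {z : N} (hz : z ∉ convexHull R s) :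
    ∃ φ : N →ₗ[R] R, ∀ w ∈ s, φ z < φ w := by
  classical
  obtain ⟨y, hy, hmin⟩ := exists_nearest hBs hBp z hs.toFinset (hs.toFinset_nonempty.2 hne)
  rw [hs.coe_toFinset] at hy hmin
  refine ⟨B (y - z), fun w hw => ?_⟩
  have h1 := nearest_inner hBs (convex_convexHull R s) hy hmin (subset_convexHull R s hw)
  have h2 : 0 < B (y - z) (y - z) := hBp _ (sub_ne_zero.2 fun e => hz (e ▸ hy))
  rw [map_sub (B (y - z))] at h1
  rw [map_sub (B (y - z)) y z] at h2
  linarith

end Groth.Agent.RootChLib

end
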