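import Groth.Agent.RootChLib.Parab
import Groth.Agent.RootChLib.Hull
set_option linter.unusedSectionVars false
set_option linter.style.haveILetI false
set_option linter.unusedSimpArgs false

/-!
Complementary convex solids: dual solids, semistability, special facets.
-/

noncomputable section

open Module Set RootCh

namespace Groth.Agent.RootChLib

universe u v w x

variable {ι : Type u} {R : Type v} {M : Type w} {N : Type x}
variable [Field R] [LinearOrder R] [IsStrictOrderedRing R]
variable [AddCommGroup M] [Module R M] [AddCommGroup N] [Module R N] [Finite ι]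
variable {P : RootPairing ι R M N} [P.IsRootSystem] [P.IsCrystallographic] [P.IsReduced]
variable {F : Facet P} {d : P.Base → N}

lemma finiteDimensional_N (P : RootPairing ι R M N) [P.IsRootSystem] [P.IsCrystallographic]
    [P.IsReduced] : FiniteDimensional R N :=
  Module.Finite.of_basis (RootPairing.nonempty_base P).some.toCoweightBasis

lemma toLinearMap_fundWeight (b : P.Base) (i : b.support) (y : N) :
    P.toLinearMap (fundWeight b i) y = b.toCoweightBasis.repr y i := by
  rw [fundWeight, P.toLinearMap.apply_symm_toPerfPair_self]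
  rfl

/-- Walking across a wall changes `d` by a non-negative multiple of the coroot. -/
lemma exists_adjacent (hd : IsCCS d) (b : P.Base) {i : ι} (hi : i ∈ b.support) :
    ∃ (b2 : P.Base) (c : R), 0 ≤ c ∧ d b2 = d b + c • P.coroot i ∧
      ∀ k, b2.IsPos k ↔ b.IsPos (P.reflectionPerm i k) := by
  classical
  have hreg : ∀ k, P.coroot' k (P.reflection i (rho P b)) ≠ 0 := fun k => by
    rw [coroot'_reflection_apply]
    exact coroot'_rho_ne_zero b _
  let b2 := baseOfWeight _ hreg
  have hpos : ∀ k, b2.IsPos k ↔ b.IsPos (P.reflectionPerm i k) := fun k => by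
    rw [isPos_iff_coroot'_pos (baseOfWeight_pos _ hreg) k, coroot'_reflection_apply,
      ← isPos_iff_coroot'_pos (b := b) (ξ := rho P b)
        (fun l hl => by rw [coroot'_rho b l hl]; exact one_pos)]
  have hcommon : ∀ l : b.support, (l : ι) ≠ i → fundWeight b l ∈ baseCorners b2 := by
    intro l hl
    refine ⟨⟨b, l, rfl⟩, fun k hk => ?_⟩
    have h1 : b.IsPos (P.reflectionPerm i k) :=
      (hpos k).1 (RootPairing.Base.isPos_of_mem_support hk)
    have hfix : P.reflection i (fundWeight b l) = fundWeight b l := by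
      rw [P.reflection_apply, coroot'_fundWeight b l i hi, if_neg hl.symm, zero_smul, sub_zero]
    rw [← hfix, coroot'_reflection_apply]
    have hmem : fundWeight b l ∈ baseCorners b := by rw [baseCorners_eq]; exact ⟨l, rfl⟩
    exact coroot'_nonneg_of_isPos hmem.2 h1
  have hnot : fundWeight b ⟨i, hi⟩ ∉ baseCorners b2 := by
    intro h
    have h1 : b2.IsPos (P.reflectionPerm i i) := by
      rw [hpos, P.reflectionPerm_self]
      exact RootPairing.Base.isPos_of_mem_support hi
    have := coroot'_nonneg_of_isPos h.2 h1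
    rw [coroot'_neg, coroot'_fundWeight_self b ⟨i, hi⟩] at this
    linarith
  have hinter : baseCorners b ∩ baseCorners b2 =
      ↑((Finset.univ.erase (⟨i, hi⟩ : b.support)).image (fundWeight b)) := by
    ext m
    simp only [Finset.coe_image, mem_inter_iff, mem_image, Finset.mem_coe, Finset.mem_erase,
      Finset.mem_univ, and_true]
    constructor
    · rintro ⟨hm, hm2⟩
      rw [baseCorners_eq] at hm
      obtain ⟨l, rfl⟩ := hm
      exact ⟨l, fun e => hnot (e ▸ hm2), rfl⟩
    · rintro ⟨l, hl, rfl⟩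
      exact ⟨by rw [baseCorners_eq]; exact ⟨l, rfl⟩, hcommon l fun e => hl (Subtype.ext e)⟩
  have hcard : (baseCorners b ∩ baseCorners b2).ncard + 1 = b.support.card := by
    rw [hinter, ncard_coe_finset, Finset.card_image_of_injective _ (fundWeight_injective b),
      Finset.card_erase_add_one (Finset.mem_univ _), Finset.card_univ, Fintype.card_coe]
  have huniq : ∀ j : ι, (b.IsPos j ∧ ¬ b2.IsPos j) ↔ j = i := by
    intro j
    rw [hpos]
    refine ⟨fun h => ?_, fun e => ?_⟩
    · by_contra hne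
      exact h.2 (h.1.reflectionPerm hi hne)
    · subst e
      exact ⟨RootPairing.Base.isPos_of_mem_support hi,
        fun h => (isPos_neg_iff b j).1 h (RootPairing.Base.isPos_of_mem_support hi)⟩
  have hle := hd.wall_le b b2 i hcard huniq
  let z := d b2 - d b
  refine ⟨b2, P.root' i z / 2, ?_, ?_, hpos⟩
  · simp only [z, map_sub]
    linarith
  · have hz : ∀ l : b.support, (l : ι) ≠ i → b.toCoweightBasis.repr z l = 0 := by
      intro l hl
      rw [← toLinearMap_fundWeight]
      simp only [z, map_sub]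
      rw [hd.corner_eq b b2 (fundWeight b l) (by rw [baseCorners_eq]; exact ⟨l, rfl⟩) (hcommon l hl),
        sub_self]
    have hz' : z = b.toCoweightBasis.repr z ⟨i, hi⟩ • P.coroot i := by
      conv_lhs => rw [← b.toCoweightBasis.sum_repr z]
      rw [Finset.sum_eq_single ⟨i, hi⟩, b.toCoweightBasis_apply]
      · intro l _ hne
        rw [hz l fun e => hne (Subtype.ext e), zero_smul]
      · exact fun h => absurd (Finset.mem_univ _) h
    have hri := congrArg (P.root' i) hz'
    rw [map_smul, P.root'_coroot_eq_pairing, P.pairing_same, smul_eq_mul] at hri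
    rw [hri, mul_div_assoc, div_self two_ne_zero, mul_one, ← hz']
    simp [z]

lemma pairing_le (hd : IsCCS d) (b : P.Base) {ξ : M} (hξ : ξ ∈ closedChamber b) (b' : P.Base) :
    P.toLinearMap ξ (d b) ≤ P.toLinearMap ξ (d b') := by
  generalize hn : {k | b'.IsPos k ∧ ¬ b.IsPos k}.ncard = n
  induction n using Nat.strongRecOn generalizing b' with
  | ind n ih =>
    by_cases hall : ∀ j ∈ b'.support, b.IsPos j
    · have : b' = b := base_eq_of_isPos_imp fun k hk =>
        hk.induction_on_add (p := fun k => b.IsPos k) hall fun i j l hl hi' hj =>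
          RootPairing.Base.IsPos.add hi' (hall j hj) hl
      rw [this]
    · push Not at hall
      obtain ⟨i, hi, hib⟩ := hall
      obtain ⟨b2, c, hc, hd2, hpos⟩ := exists_adjacent hd b' hi
      have hlt : {k | b2.IsPos k ∧ ¬ b.IsPos k} ⊂ {k | b'.IsPos k ∧ ¬ b.IsPos k} := by
        rw [ssubset_iff_of_subset]
        · refine ⟨i, ⟨RootPairing.Base.isPos_of_mem_support hi, hib⟩, fun h => ?_⟩
          exact (isPos_neg_iff b' i).1 ((hpos i).1 h.1) (RootPairing.Base.isPos_of_mem_support hi)
        · rintro k ⟨hk2, hkb⟩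
          refine ⟨?_, hkb⟩
          have h1 := (hpos k).1 hk2
          by_cases e : P.reflectionPerm i k = i
          · have hk : k = P.reflectionPerm i i := by
              have h := congrArg (P.reflectionPerm i) e
              rwa [P.reflectionPerm_self] at h
            exact absurd (hk ▸ (isPos_neg_iff b i).2 hib) hkb
          · have := h1.reflectionPerm hi e
            rwa [P.reflectionPerm_self] at this
      have h1 := ih _ (hn ▸ Set.ncard_lt_ncard hlt) b2 rfl
      rw [hd2, map_add, map_smul, smul_eq_mul] at h1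
      have h2 : P.coroot' i ξ ≤ 0 := by
        have := coroot'_nonneg_of_isPos hξ ((isPos_neg_iff b i).2 hib)
        rw [coroot'_neg] at this
        linarith
      have h3 : P.toLinearMap ξ (P.coroot i) ≤ 0 := h2
      linarith [mul_nonpos_of_nonneg_of_nonpos hc h3]

lemma pairing_le_solid (hd : IsCCS d) (b : P.Base) {ξ : M} (hξ : ξ ∈ closedChamber b) {y : N}
    (hy : y ∈ solid d) : P.toLinearMap ξ (d b) ≤ P.toLinearMap ξ y :=
  (convexHull_min (by rintro - ⟨b', rfl⟩; exact pairing_le hd b hξ b')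
    (convex_halfSpace_ge (P.toLinearMap ξ).isLinear _) hy :)

lemma mem_baseCorners {b : P.Base} (hb : b ∈ F.cham) {m : M} (hm : m ∈ F.corners) :
    m ∈ baseCorners b :=
  ⟨hm.1, fun j hj => ((mem_closure_iff hb).1 hm.2 j hj).1⟩

lemma pairing_eq_of_hyper {b : P.Base} (hb : b ∈ F.cham) {y : N}
    (hy : y ∈ ⋂ m ∈ F.corners, hyper d m) {ξ : M} (hξ : ξ ∈ Submodule.span R F.corners) :
    P.toLinearMap ξ y = P.toLinearMap ξ (d b) := by
  rw [mem_iInter₂] at hy
  induction hξ using Submodule.span_induction with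
  | mem m hm => exact hy m hm b (mem_baseCorners hb hm)
  | zero => simp
  | add p q _ _ hp hq => simp only [map_add, LinearMap.add_apply, hp, hq]
  | smul c p _ hp => simp only [map_smul, LinearMap.smul_apply, hp]

lemma sigma_mem_span : sigma F ∈ Submodule.span R F.corners :=
  carrier_subset_span_corners sigma_mem_carrier

lemma subset_rhs (hd : IsCCS d) :
    dualSolid d F ⊆ (⋂ m ∈ F.corners, hyper d m) ∩ ⋂ m ∈ F.corners', halfClosed d m := by
  rintro y hy
  refine ⟨mem_iInter₂.2 fun m hm c hc => ?_, mem_iInter₂.2 fun m _ c hc =>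
    pairing_le_solid hd c hc.2 (convexHull_mono (image_subset_range _ _) hy)⟩
  have : y ∈ {w | P.toLinearMap m w = P.toLinearMap m (d c)} := by
    refine convexHull_min ?_ (convex_hyperplane (P.toLinearMap m).isLinear _) hy
    rintro - ⟨b, hb, rfl⟩
    exact hd.corner_eq b c m (mem_baseCorners hb hm) hc
  exact this

lemma corootForm_pos {y : N} (h : y ≠ 0) : 0 < G P.flip y y :=
  G_pos (P := P.flip) h

lemma corootForm_bilin [Fintype ι] (y z : N) : G P.flip y z = P.flip.RootForm y z := by
  rw [G_eq_sum (P := P.flip), RootPairing.rootForm_apply_apply]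

variable (P) in
/-- The invariant form on the coweight space. -/
def coForm : N →ₗ[R] N →ₗ[R] R := P.toLinearMap.comp (pol P.flip)

lemma coForm_apply (y z : N) : coForm P y z = G P.flip y z := rfl

lemma dualSolid_eq (hd : IsCCS d) (F : Facet P) :
    dualSolid d F = (⋂ m ∈ F.corners, hyper d m) ∩ ⋂ m ∈ F.corners', halfClosed d m := by
  refine subset_antisymm (subset_rhs hd) ?_
  rintro y ⟨hy1, hy2⟩
  by_contra hy
  have := finite_base (P := P)
  have := finiteDimensional_N P
  obtain ⟨b0, hb0⟩ := exists_cham F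
  obtain ⟨φ, hφ⟩ := exists_separating (B := coForm P)
    (fun p q => by rw [coForm_apply, coForm_apply, G_symm (P := P.flip)])
    (fun p hp => by rw [coForm_apply]; exact corootForm_pos hp)
    (Set.toFinite (d '' F.cham)) ⟨_, mem_image_of_mem d hb0⟩ hy
  obtain ⟨ξ, hξ⟩ : ∃ ξ : M, P.toLinearMap ξ = φ :=
    ⟨P.toPerfPair.symm φ, P.toLinearMap.apply_symm_toPerfPair_self φ⟩
  subst hξ
  obtain ⟨t, ht, hle⟩ := exists_chamber_near (P := P) (ξ := sigma F) ξ
  have hF : Facet.ofVec P (sigma F) = F := Facet.ext sigma_mem_carrier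
  rw [hF] at hle
  obtain ⟨b, hbG⟩ := exists_cham (Facet.ofVec P (sigma F + t • ξ))
  have hb : b ∈ F.cham := mem_cham_of_le hle hbG
  have hch : sigma F + t • ξ ∈ closedChamber b := hbG rfl
  have hge : P.toLinearMap (sigma F + t • ξ) (d b) ≤ P.toLinearMap (sigma F + t • ξ) y := by
    rw [expansion b (sigma F + t • ξ)]
    simp only [map_sum, LinearMap.sum_apply, map_smul, LinearMap.smul_apply, smul_eq_mul]
    refine Finset.sum_le_sum fun i _ => mul_le_mul_of_nonneg_left ?_ (hch i i.2)
    have hmem : fundWeight b i ∈ baseCorners b := by rw [baseCorners_eq]; exact ⟨i, rfl⟩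
    exact (mem_iInter₂.1 hy2 _ (mem_iUnion₂.2 ⟨b, hb, hmem⟩)) b hmem
  have hlt := hφ _ (mem_image_of_mem d hb)
  simp only [map_add, LinearMap.add_apply, map_smul, LinearMap.smul_apply, smul_eq_mul,
    pairing_eq_of_hyper hb hy1 sigma_mem_span] at hge
  nlinarith

lemma origin_sgn (i : ι) : (Facet.origin P).sgn i = 0 := by
  simp [Facet.origin, Facet.ofVec, sgnVec]

lemma mem_cham_origin (b : P.Base) : b ∈ (Facet.origin P).cham :=
  mem_cham_iff.2 fun j _ => by rw [origin_sgn]; decide

lemma dualSolid_origin : dualSolid d (Facet.origin P) = solid d := by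
  have h : (Facet.origin P).cham = univ := eq_univ_of_forall mem_cham_origin
  rw [dualSolid, h, image_univ]
  rfl

lemma semistable_iff (hd : IsCCS d) :
    IsSemistable d ↔ ∀ (b : P.Base), ∀ m ∈ baseCorners b, P.toLinearMap m (d b) ≤ 0 := by
  constructor
  · intro h b m hm
    simpa using pairing_le_solid hd b hm.2 h
  · intro h
    rw [IsSemistable, ← dualSolid_origin, dualSolid_eq hd]
    refine ⟨mem_iInter₂.2 fun m hm => ?_,
      mem_iInter₂.2 fun m _ b hb => by simpa using h b m hb⟩
    obtain ⟨i, hi, -⟩ := (mem_corners_iff (mem_cham_origin (RootPairing.nonempty_base P).some)).1 hm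
    exact absurd (origin_sgn (i : ι)) hi

lemma deg_eq_pairing (d : P.Base → N) (F : Facet P) (b : P.Base) :
    F.deg d b = P.toLinearMap (sigma F) (d b) := by
  simp only [Facet.deg, sigma, map_sum, LinearMap.sum_apply]

lemma pairing_eq_of_cham (hd : IsCCS d) {b b' : P.Base} (hb : b ∈ F.cham) (hb' : b' ∈ F.cham)
    {ξ : M} (hξ : ξ ∈ Submodule.span R F.corners) :
    P.toLinearMap ξ (d b') = P.toLinearMap ξ (d b) :=
  pairing_eq_of_hyper hb (subset_rhs hd (subset_convexHull R _ (mem_image_of_mem d hb'))).1 hξ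

lemma ray_facet (b : P.Base) (i : b.support) :
    b ∈ (Facet.ofVec P (fundWeight b i)).cham ∧
      (Facet.ofVec P (fundWeight b i)).corners = {fundWeight b i} := by
  classical
  have hmem : fundWeight b i ∈ baseCorners b := by rw [baseCorners_eq]; exact ⟨i, rfl⟩
  have hcar : fundWeight b i ∈ (Facet.ofVec P (fundWeight b i)).carrier := rfl
  have hcham := mem_cham_of_mem_carrier hcar hmem.2
  refine ⟨hcham, Set.ext fun m => ?_⟩
  rw [mem_corners_iff hcham, mem_singleton_iff]
  have hsgn : ∀ j : b.support, (Facet.ofVec P (fundWeight b i)).sgn j ≠ 0 ↔ j = i := by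
    intro j
    rw [ne_eq, ← coroot'_zero_iff hcar, coroot'_fundWeight b i j j.2]
    by_cases e : j = i
    · subst e; simp
    · simp [fun h => e (Subtype.ext h), e]
  constructor
  · rintro ⟨j, hj, rfl⟩
    rw [(hsgn j).1 hj]
  · rintro rfl
    exact ⟨i, (hsgn i).2 rfl, rfl⟩

lemma dim_ray (b : P.Base) (i : b.support) : (Facet.ofVec P (fundWeight b i)).dim = 1 := by
  rw [Facet.dim, span_carrier_eq, (ray_facet b i).2]
  exact finrank_span_singleton (fundWeight_ne_zero b i)

lemma corner_nonpos_of_deg (b : P.Base) (i : b.support)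
    (h : (Facet.ofVec P (fundWeight b i)).deg d b ≤ 0) :
    P.toLinearMap (fundWeight b i) (d b) ≤ 0 := by
  have hσ := sigma_mem_span (F := Facet.ofVec P (fundWeight b i))
  rw [(ray_facet b i).2, Submodule.mem_span_singleton] at hσ
  obtain ⟨c, hc⟩ := hσ
  have hc0 : 0 < c := by
    have h1 : sgnVec P (sigma (Facet.ofVec P (fundWeight b i))) (i : ι) =
        sgnVec P (fundWeight b i) i := congrFun (sigma_mem_carrier) (i : ι)
    rw [sgnVec, sgnVec, ← hc, map_smul, coroot'_fundWeight_self, smul_eq_mul, mul_one,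
      sign_one, sign_eq_one_iff] at h1
    exact h1
  rw [deg_eq_pairing, ← hc, map_smul, LinearMap.smul_apply, smul_eq_mul] at h
  exact nonpos_of_mul_nonpos_right h hc0

lemma deg_nonpos_of_semistable (hd : IsCCS d) (h : IsSemistable d) {b : P.Base}
    (hb : b ∈ F.cham) : F.deg d b ≤ 0 := by
  rw [deg_eq_pairing]
  simpa using pairing_le_solid hd b (hb sigma_mem_carrier) h

lemma semistable_iff_deg (hd : IsCCS d) :
    (∀ (F : Facet P) (b : P.Base), b ∈ F.cham → F.deg d b ≤ 0) ↔ IsSemistable d := by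
  refine ⟨fun h => (semistable_iff hd).2 fun b m hm => ?_, fun h F b hb =>
    deg_nonpos_of_semistable hd h hb⟩
  rw [baseCorners_eq] at hm
  obtain ⟨i, rfl⟩ := hm
  exact corner_nonpos_of_deg b i (h _ b (ray_facet b i).1)

lemma semistable_iff_deg_dim_one (hd : IsCCS d) :
    (∀ (F : Facet P) (b : P.Base), F.dim = 1 → b ∈ F.cham → F.deg d b ≤ 0) ↔ IsSemistable d := by
  refine ⟨fun h => (semistable_iff hd).2 fun b m hm => ?_, fun h F b _ hb =>
    deg_nonpos_of_semistable hd h hb⟩
  rw [baseCorners_eq] at hm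
  obtain ⟨i, rfl⟩ := hm
  exact corner_nonpos_of_deg b i (h _ b (dim_ray b i) (ray_facet b i).1)

/-! ### Special facets -/

lemma yLocus_subsingleton {y y' : N} (hy : y ∈ yLocus d F) (hy' : y' ∈ yLocus d F) : y = y' := by
  obtain ⟨hy1, hy2⟩ := hy
  obtain ⟨hy1', hy2'⟩ := hy'
  rw [span_dualCarrier] at hy2 hy2'
  obtain ⟨p, hp, rfl⟩ := hy2
  obtain ⟨q, hq, rfl⟩ := hy2'
  obtain ⟨b, hb⟩ := exists_cham F
  by_contra h
  have hne : p - q ≠ 0 := fun e => h (by rw [sub_eq_zero.1 e])
  have hpos := G_pos (P := P) hne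
  have hmem : p - q ∈ Submodule.span R F.corners := sub_mem hp hq
  have h1 := pairing_eq_of_hyper hb hy1 hmem
  have h2 := pairing_eq_of_hyper hb hy1' hmem
  rw [G, map_sub (pol P), map_sub (P.toLinearMap (p - q)), h1, h2, sub_self] at hpos
  exact lt_irrefl _ hpos

lemma mem_yLocus (hd : IsCCS d) {y : N} (hy : y ∈ F.dualCarrier ∩ dualSolid d F) :
    y ∈ yLocus d F :=
  ⟨(subset_rhs hd hy.2).1, Submodule.subset_span hy.1⟩

lemma special_point (hd : IsCCS d) (hF : IsSpecial d F) :
    ∃ y₀, yLocus d F = {y₀} ∧ F.dualCarrier ∩ dualSolid d F = {y₀} := by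
  obtain ⟨y₀, hy₀⟩ := hF
  have h := mem_yLocus hd hy₀
  refine ⟨y₀, eq_singleton_iff_unique_mem.2 ⟨h, fun z hz => yLocus_subsingleton hz h⟩,
    eq_singleton_iff_unique_mem.2 ⟨hy₀, fun z hz => yLocus_subsingleton (mem_yLocus hd hz) h⟩⟩

lemma exists_weight_of_form (B : LinearMap.BilinForm R N) (hBs : ∀ y z : N, B y z = B z y)
    (hBp : ∀ y : N, y ≠ 0 → 0 < B y y)
    (hBi : ∀ (i : ι) (y z : N), B (P.coreflection i y) (P.coreflection i z) = B y z)
    {y₀ : N} (hy₀ : y₀ ∈ F.dualCarrier) :
    ∃ ξ ∈ F.carrier, ∀ z, P.toLinearMap ξ z = B y₀ z := by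
  refine ⟨P.toPerfPair.symm (B y₀), funext fun i => ?_,
    fun z => LinearMap.congr_fun (P.toLinearMap.apply_symm_toPerfPair_self (B y₀)) z⟩
  have h := hBi i (P.coroot i) y₀
  rw [P.coreflection_apply_self, P.coreflection_apply] at h
  have he : P.coroot' i (P.toPerfPair.symm (B y₀)) = B y₀ (P.coroot i) :=
    LinearMap.congr_fun (P.toLinearMap.apply_symm_toPerfPair_self (B y₀)) (P.coroot i)
  simp only [map_neg, LinearMap.neg_apply, map_sub, map_smul, smul_eq_mul, hBs (P.coroot i) y₀] at h
  have hcor : 0 < B (P.coroot i) (P.coroot i) := hBp _ (P.flip.ne_zero i)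
  have he2 : B y₀ (P.coroot i) = P.root' i y₀ * (B (P.coroot i) (P.coroot i) / 2) := by
    linarith
  rw [← hy₀, sgnVec, cosgnVec, he, he2, sign_mul, sign_pos (half_pos hcor), mul_one]

lemma special_minimizer (hd : IsCCS d) (B : LinearMap.BilinForm R N)
    (hBs : ∀ y z : N, B y z = B z y) (hBp : ∀ y : N, y ≠ 0 → 0 < B y y)
    (hBi : ∀ (i : ι) (y z : N), B (P.coreflection i y) (P.coreflection i z) = B y z)
    {y₀ : N} (hy₀ : y₀ ∈ F.dualCarrier ∩ dualSolid d F) {y : N} (hy : y ∈ solid d) (hne : y ≠ y₀) :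
    B y₀ y₀ < B y y := by
  obtain ⟨ξ, hξ, hξz⟩ := exists_weight_of_form B hBs hBp hBi hy₀.1
  obtain ⟨b, hb⟩ := exists_cham F
  have h1 := pairing_le_solid hd b (hb hξ) hy
  rw [← pairing_eq_of_hyper hb (subset_rhs hd hy₀.2).1 (carrier_subset_span_corners hξ), hξz,
    hξz] at h1
  have h2 := hBp (y - y₀) (sub_ne_zero.2 hne)
  simp only [map_sub, LinearMap.sub_apply, hBs y y₀] at h2
  linarith

lemma special_of_minimizer (hd : IsCCS d) (B : LinearMap.BilinForm R N)
    (hBs : ∀ y z : N, B y z = B z y) (hBp : ∀ y : N, y ≠ 0 → 0 < B y y)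
    (hBi : ∀ (i : ι) (y z : N), B (P.coreflection i y) (P.coreflection i z) = B y z)
    {y₀ : N} (hy₀ : y₀ ∈ solid d) (hmin : ∀ y ∈ solid d, B y₀ y₀ ≤ B y y)
    (hF : y₀ ∈ F.dualCarrier) : y₀ ∈ F.dualCarrier ∩ dualSolid d F := by
  classical
  obtain ⟨ξ, hξ, hξz⟩ := exists_weight_of_form B hBs hBp hBi hF
  obtain ⟨b, hb⟩ := exists_cham F
  have := finiteDimensional_N P
  have hmin' : ∀ y ∈ solid d, P.toLinearMap ξ y₀ ≤ P.toLinearMap ξ y := by
    intro y hy
    have := nearest_inner (B := B) hBs (convex_convexHull R _) (z := 0) hy₀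
      (fun w hw => by rw [sub_zero, sub_zero]; exact hmin w hw) hy
    rw [sub_zero, map_sub (B y₀)] at this
    rw [hξz, hξz]
    linarith
  have heq : P.toLinearMap ξ (d b) = P.toLinearMap ξ y₀ :=
    le_antisymm (pairing_le_solid hd b (hb hξ) hy₀)
      (hmin' _ (subset_convexHull R _ (mem_range_self b)))
  have hcorner : ∀ i : b.support, 0 < P.coroot' i ξ →
      P.toLinearMap (fundWeight b i) y₀ = P.toLinearMap (fundWeight b i) (d b) := by
    intro i hi
    have hterm : ∀ j : b.support, 0 ≤ P.coroot' j ξ *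
        (P.toLinearMap (fundWeight b j) y₀ - P.toLinearMap (fundWeight b j) (d b)) := by
      intro j
      have hmem : fundWeight b j ∈ baseCorners b := by rw [baseCorners_eq]; exact ⟨j, rfl⟩
      exact mul_nonneg (hb hξ j j.2) (sub_nonneg.2 (pairing_le_solid hd b hmem.2 hy₀))
    have hsum : ∑ j : b.support, P.coroot' j ξ *
        (P.toLinearMap (fundWeight b j) y₀ - P.toLinearMap (fundWeight b j) (d b)) = 0 := by
      have h1 := congrArg (fun η => P.toLinearMap η y₀ - P.toLinearMap η (d b)) (expansion b ξ)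
      simp only [map_sum, LinearMap.sum_apply, map_smul, LinearMap.smul_apply, smul_eq_mul,
        ← Finset.sum_sub_distrib, ← mul_sub, heq, sub_self] at h1
      exact h1.symm
    have h0 := (Finset.sum_eq_zero_iff_of_nonneg fun j _ => hterm j).1 hsum i (Finset.mem_univ _)
    exact sub_eq_zero.1 ((mul_eq_zero.1 h0).resolve_left hi.ne')
  refine ⟨hF, ?_⟩
  rw [dualSolid_eq hd]
  refine ⟨mem_iInter₂.2 fun m hm c hc => ?_,
    mem_iInter₂.2 fun m _ c hc => pairing_le_solid hd c hc.2 hy₀⟩
  obtain ⟨i, hi, rfl⟩ := (mem_corners_iff hb).1 hm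
  rw [hcorner i ((coroot'_pos_iff hξ i).2 ((sgn_simple hb i).resolve_left hi))]
  exact hd.corner_eq b c _ (mem_baseCorners hb hm) hc

lemma coForm_invariant (i : ι) (y z : N) :
    coForm P (P.coreflection i y) (P.coreflection i z) = coForm P y z := by
  have := Fintype.ofFinite ι
  rw [coForm_apply, coForm_apply, corootForm_bilin, corootForm_bilin]
  exact P.flip.rootForm_reflection_reflection_apply i y z

lemma existsUnique_special (hd : IsCCS d) : ∃! F : Facet P, IsSpecial d F := by
  classical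
  have := finite_base (P := P)
  have := finiteDimensional_N P
  let : Fintype P.Base := Fintype.ofFinite _
  have hs : ∀ p q : N, coForm P p q = coForm P q p := fun p q => by
    rw [coForm_apply, coForm_apply, G_symm (P := P.flip)]
  have hp : ∀ p : N, p ≠ 0 → 0 < coForm P p p := fun p h => by
    rw [coForm_apply]; exact corootForm_pos h
  obtain ⟨b0⟩ := RootPairing.nonempty_base P
  obtain ⟨y₀, hy₀, hmin⟩ := exists_nearest hs hp (0 : N) (Finset.univ.image d)
    ⟨d b0, Finset.mem_image_of_mem d (Finset.mem_univ b0)⟩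
  simp only [Finset.coe_image, Finset.coe_univ, image_univ, sub_zero] at hy₀ hmin
  obtain ⟨ξ, rfl⟩ := (pol_bijective (P := P)).2 y₀
  have hsp := special_of_minimizer hd (coForm P) hs hp coForm_invariant hy₀ hmin
    (F := Facet.ofVec P ξ) (mem_dualCarrier_iff.2 rfl)
  refine ⟨Facet.ofVec P ξ, ⟨_, hsp⟩, fun G hG => ?_⟩
  obtain ⟨z, hz⟩ := hG
  have hzs : z ∈ solid d := convexHull_mono (image_subset_range _ _) hz.2
  have : z = pol P ξ := by
    by_contra h
    exact absurd (special_minimizer hd (coForm P) hs hp coForm_invariant hz hy₀ (Ne.symm h))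
      (not_lt.2 (hmin z hzs))
  subst this
  exact Facet.ext (hz.1.symm.trans hsp.1)

lemma mem_parab_of_root' {y : N} (hy : y ∈ F.dualCarrier) (k : ι) :
    k ∈ F.parab ↔ 0 ≤ P.root' k y := by
  rw [← sign_ne_neg_one_iff, show SignType.sign (P.root' k y) = F.sgn k from congrFun hy k]
  rfl

lemma deg_le_special (hd : IsCCS d) {b : P.Base} (hb : b ∈ F.cham) (hF : IsSpecial d F)
    (G : Facet P) {c : P.Base} (hc : c ∈ G.cham) :
    G.deg d c ≤ F.deg d b ∧ (G.deg d c = F.deg d b → G ≤ F) := by
  classical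
  obtain ⟨y, hy⟩ := hF
  have : Fintype ι := Fintype.ofFinite ι
  have hys : y ∈ solid d := convexHull_mono (image_subset_range _ _) hy.2
  have h1 : G.deg d c ≤ P.toLinearMap (sigma G) y := by
    rw [deg_eq_pairing]
    exact pairing_le_solid hd c (hc sigma_mem_carrier) hys
  have hs : ∀ H : Facet P, P.toLinearMap (sigma H) y =
      ∑ k, if k ∈ H.parab then P.root' k y else 0 := by
    intro H
    rw [sigma, map_sum, LinearMap.sum_apply, ← Finset.sum_filter]
    exact Finset.sum_congr (by ext; simp) fun _ _ => rfl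
  have hle : ∀ k, (if k ∈ G.parab then P.root' k y else 0) ≤
      if k ∈ F.parab then P.root' k y else 0 := by
    intro k
    have := mem_parab_of_root' hy.1 k
    by_cases h : 0 ≤ P.root' k y
    · rw [if_pos (this.2 h)]
      split <;> linarith
    · rw [if_neg fun hk => h (this.1 hk)]
      push Not at h
      split <;> linarith
  have h2 : P.toLinearMap (sigma G) y ≤ F.deg d b := by
    rw [deg_eq_pairing, ← pairing_eq_of_hyper hb (subset_rhs hd hy.2).1 sigma_mem_span, hs, hs]
    exact Finset.sum_le_sum fun k _ => hle k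
  refine ⟨h1.trans h2, fun heq => le_iff_parab.2 fun k hk => ?_⟩
  have he : P.toLinearMap (sigma G) y = P.toLinearMap (sigma F) y := by
    have h3 : F.deg d b = P.toLinearMap (sigma F) y := by
      rw [deg_eq_pairing, pairing_eq_of_hyper hb (subset_rhs hd hy.2).1 sigma_mem_span]
    linarith
  rw [hs, hs] at he
  have hk2 := (Finset.sum_eq_sum_iff_of_le fun j _ => hle j).1 he k (Finset.mem_univ k)
  by_contra hkF
  have h4 : P.root' k y < 0 := not_le.1 fun h => hkF ((mem_parab_of_root' hy.1 k).2 h)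
  rw [if_pos hk, if_neg hkF] at hk2
  exact h4.ne hk2

/-! ### Numerical invariants -/

lemma numInv_eq_pairing (d : P.Base → N) (F : Facet P) (m : M) (b : P.Base) :
    F.numInv d m b = P.toLinearMap (∑ i ∈ (Set.toFinite (F.Psi m)).toFinset, P.root i) (d b) := by
  simp only [Facet.numInv, map_sum, LinearMap.sum_apply]

lemma numInv_pos_iff (hd : IsCCS d) {b : P.Base} (hb : b ∈ F.cham) (j : b.support)
    (hj : F.sgn j ≠ 0) {η : M} (hη : η ∈ Submodule.span R F.corners)
    (hy : pol P η ∈ dualSolid d F) :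
    0 < F.numInv d (fundWeight b j) b ↔ 0 < P.coroot' j η := by
  have hm : fundWeight b j ∈ F.corners := (mem_corners_iff hb).2 ⟨j, hj, rfl⟩
  rw [numInv_eq_pairing,
    ← pairing_eq_of_hyper hb (subset_rhs hd hy).1 (sum_psi_mem_span F _ hm), map_sum,
    LinearMap.sum_apply,
    Finset.sum_congr rfl fun k hk => root'_psi hb j hj hη ((Set.Finite.mem_toFinset _).1 hk),
    Finset.sum_const, nsmul_eq_mul, ← root'_pol_pos_iff]
  have hne : 0 < (Set.toFinite (F.Psi (fundWeight b j))).toFinset.card :=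
    Finset.card_pos.2 ⟨j, (Set.Finite.mem_toFinset _).2 (mem_psi_simple hb j)⟩
  exact mul_pos_iff_of_pos_left (Nat.cast_pos.2 hne)

lemma special_iff (hd : IsCCS d) (F : Facet P) :
    ((∀ m ∈ F.corners, ∀ b ∈ F.cham, 0 < F.numInv d m b) ∧
        (dualSolid d F ∩ (Submodule.span R F.dualCarrier : Set N)).Nonempty) ↔
      IsSpecial d F := by
  rw [span_dualCarrier]
  constructor
  · rintro ⟨hn, y, hy, hspan⟩
    obtain ⟨η, hη, rfl⟩ := hspan
    obtain ⟨b, hb⟩ := exists_cham F
    refine ⟨_, mem_dualCarrier_iff.2 ((mem_carrier_iff hb).2 fun j hj => ?_), hy⟩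
    rcases sgn_simple hb ⟨j, hj⟩ with e | e <;> simp only at e
    · rw [e, (mem_span_corners_iff hb).1 hη j hj e, sign_zero]
    · have hne : F.sgn j ≠ 0 := by rw [e]; decide
      have hm : fundWeight b ⟨j, hj⟩ ∈ F.corners := (mem_corners_iff hb).2 ⟨⟨j, hj⟩, hne, rfl⟩
      rw [e, sign_pos ((numInv_pos_iff hd hb ⟨j, hj⟩ hne hη hy).1 (hn _ hm b hb))]
  · rintro ⟨y, hy1, hy2⟩
    rw [dualCarrier_eq] at hy1
    obtain ⟨η, hη, rfl⟩ := hy1
    have hspan := carrier_subset_span_corners hη
    refine ⟨fun m hm b hb => ?_, ⟨_, hy2, η, hspan, rfl⟩⟩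
    obtain ⟨i, hi, rfl⟩ := (mem_corners_iff hb).1 hm
    exact (numInv_pos_iff hd hb i hi hspan hy2).2
      ((coroot'_pos_iff hη i).2 ((sgn_simple hb i).resolve_left hi))

end Groth.Agent.RootChLib

end
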