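import Groth.Agent.RootChLib.Basic
import Mathlib.LinearAlgebra.Dimension.StrongRankCondition
set_option linter.unusedSectionVars false
set_option linter.style.haveILetI false
set_option linter.unusedSimpArgs false

/-!
Chambers adjacent to facets and their corners.
-/

noncomputable section

open Module Set RootCh

namespace Groth.Agent.RootChLib

universe u v w x

variable {ι : Type u} {R : Type v} {M : Type w} {N : Type x}
variable [Field R] [LinearOrder R] [IsStrictOrderedRing R]
variable [AddCommGroup M] [Module R M] [AddCommGroup N] [Module R N] [Finite ι]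
variable {P : RootPairing ι R M N} [P.IsRootSystem] [P.IsCrystallographic] [P.IsReduced]

lemma coroot'_fundWeight (b : P.Base) (i : b.support) (j : ι) (hj : j ∈ b.support) [DecidableEq ι] :
    P.coroot' j (fundWeight b i) = if j = i then 1 else 0 := by
  by_cases h : j = i
  · rw [if_pos h, h]
    exact coroot'_fundWeight_self b i
  · rw [if_neg h]
    exact coroot'_fundWeight_of_ne b i ⟨j, hj⟩ fun e => h (congrArg Subtype.val e)

lemma root'_fundCoweight (b : P.Base) (i : b.support) (j : ι) (hj : j ∈ b.support) [DecidableEq ι] :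
    P.root' j (fundCoweight b i) = if j = i then 1 else 0 := by
  by_cases h : j = i
  · rw [if_pos h, h]
    exact root'_fundCoweight_self b i
  · rw [if_neg h]
    exact root'_fundCoweight_of_ne b i ⟨j, hj⟩ fun e => h (congrArg Subtype.val e)

lemma ext_M (b : P.Base) {ξ η : M} (h : ∀ j ∈ b.support, P.coroot' j ξ = P.coroot' j η) :
    ξ = η := by
  apply (P.toPerfPair).injective
  refine b.toCoweightBasis.ext fun j => ?_
  simpa [b.toCoweightBasis_apply] using h j j.2

lemma ext_N (b : P.Base) {x y : N} (h : ∀ j ∈ b.support, P.root' j x = P.root' j y) :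
    x = y := by
  apply (P.flip.toPerfPair).injective
  refine b.toWeightBasis.ext fun j => ?_
  simpa [b.toWeightBasis_apply] using h j j.2

lemma coroot'_sum_smul (b : P.Base) (c : b.support → R) (j : b.support) :
    P.coroot' j (∑ i, c i • fundWeight b i) = c j := by
  classical
  rw [map_sum, Finset.sum_eq_single j]
  · rw [map_smul, coroot'_fundWeight b j j j.2, if_pos rfl, smul_eq_mul, mul_one]
  · intro i _ hi
    rw [map_smul, coroot'_fundWeight b i j j.2,
      if_neg (fun h => hi (Subtype.ext h).symm), smul_zero]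
  · exact fun h => absurd (Finset.mem_univ _) h

lemma expansion (b : P.Base) (ξ : M) :
    ξ = ∑ i : b.support, P.coroot' i ξ • fundWeight b i :=
  ext_M b fun j hj => (coroot'_sum_smul b (fun i => P.coroot' i ξ) ⟨j, hj⟩).symm

lemma fundWeight_injective (b : P.Base) : Function.Injective (fundWeight b) := by
  intro i i' h
  classical
  have := coroot'_fundWeight b i' i i.2
  rw [← h, coroot'_fundWeight_self] at this
  by_contra hne
  rw [if_neg (fun e => hne (Subtype.ext e))] at this
  exact one_ne_zero this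

lemma fundWeight_ne_zero (b : P.Base) (i : b.support) : fundWeight b i ≠ 0 := by
  intro h
  have := coroot'_fundWeight_self b i
  rw [h, map_zero] at this
  exact one_ne_zero this.symm

lemma linearIndependent_fundWeight (b : P.Base) : LinearIndependent R (fundWeight b) := by
  rw [Fintype.linearIndependent_iff]
  intro c hc j
  have := coroot'_sum_smul b c j
  rw [hc, map_zero] at this
  exact this.symm

/-- Dominance in the coweight space. -/
def Dom (b : P.Base) (x : N) : Prop := ∀ j ∈ b.support, 0 ≤ P.root' j x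

lemma root'_pol_nonneg_iff (i : ι) (ξ : M) : 0 ≤ P.root' i (pol P ξ) ↔ 0 ≤ P.coroot' i ξ := by
  rw [root'_pol, mul_nonneg_iff_of_pos_left (by linarith [qn_pos (P := P) i])]

lemma root'_pol_pos_iff (i : ι) (ξ : M) : 0 < P.root' i (pol P ξ) ↔ 0 < P.coroot' i ξ := by
  rw [root'_pol, mul_pos_iff_of_pos_left (by linarith [qn_pos (P := P) i])]

lemma root'_pol_eq_zero_iff (i : ι) (ξ : M) : P.root' i (pol P ξ) = 0 ↔ P.coroot' i ξ = 0 := by
  rw [root'_pol, mul_eq_zero_iff_left (by linarith [qn_pos (P := P) i])]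

lemma mem_closedChamber_iff (b : P.Base) (ξ : M) : ξ ∈ closedChamber b ↔ Dom b (pol P ξ) :=
  ⟨fun h j hj => (root'_pol_nonneg_iff j ξ).2 (h j hj),
    fun h j hj => (root'_pol_nonneg_iff j ξ).1 (h j hj)⟩

lemma coroot'_nonneg_of_isPos {b : P.Base} {ξ : M} (h : ξ ∈ closedChamber b) {i : ι}
    (hi : b.IsPos i) : 0 ≤ P.coroot' i ξ :=
  (root'_pol_nonneg_iff i ξ).1 (root'_nonneg_of_isPos ((mem_closedChamber_iff b ξ).1 h) hi)

variable (P) in
/-- The sum of the fundamental weights of a base. -/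
def rho (b : P.Base) : M := ∑ i : b.support, fundWeight b i

lemma coroot'_rho (b : P.Base) (j : ι) (hj : j ∈ b.support) : P.coroot' j (rho P b) = 1 := by
  simpa [rho] using coroot'_sum_smul b (fun _ => 1) ⟨j, hj⟩

lemma isPos_iff_coroot'_pos {b : P.Base} {ξ : M} (h : ∀ j ∈ b.support, 0 < P.coroot' j ξ) (i : ι) :
    b.IsPos i ↔ 0 < P.coroot' i ξ :=
  (isPos_iff_root'_pos (fun j hj => (root'_pol_pos_iff j ξ).2 (h j hj)) i).trans
    (root'_pol_pos_iff i ξ)

lemma coroot'_rho_ne_zero (b : P.Base) (i : ι) : P.coroot' i (rho P b) ≠ 0 := by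
  rw [ne_eq, ← root'_pol_eq_zero_iff]
  exact root'_ne_zero_of_chamber
    (fun j hj => (root'_pol_pos_iff j _).2 (by rw [coroot'_rho b j hj]; exact one_pos)) i

/-- The base attached to a regular vector of the weight space. -/
def baseOfWeight (ξ : M) (hξ : ∀ i, P.coroot' i ξ ≠ 0) : P.Base :=
  baseOfVec (pol P ξ) fun i => mt (root'_pol_eq_zero_iff i ξ).1 (hξ i)

lemma baseOfWeight_pos (ξ : M) (hξ : ∀ i, P.coroot' i ξ ≠ 0) :
    ∀ j ∈ (baseOfWeight (P := P) ξ hξ).support, 0 < P.coroot' j ξ :=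
  fun j hj => (root'_pol_pos_iff j ξ).1 (baseOfVec_simple_pos _ _ j hj)

variable {F G : Facet P}

omit [P.IsReduced] [P.IsCrystallographic] [P.IsRootSystem] in
lemma sgn_eq_of_mem {ξ : M} (h : ξ ∈ F.carrier) (i : ι) :
    SignType.sign (P.coroot' i ξ) = F.sgn i :=
  congrFun h i

omit [P.IsReduced] [P.IsCrystallographic] [P.IsRootSystem] in
lemma carrier_nonempty (F : Facet P) : ∃ ξ : M, ξ ∈ F.carrier := F.exists_sgnVec_eq

omit [P.IsReduced] [P.IsCrystallographic] [P.IsRootSystem] in
lemma sgn_neg (F : Facet P) (i : ι) : F.sgn (P.reflectionPerm i i) = -F.sgn i := by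
  obtain ⟨ξ, h⟩ := carrier_nonempty F
  rw [← sgn_eq_of_mem h, ← sgn_eq_of_mem h, coroot'_neg, Left.sign_neg]

lemma sign_ne_neg_one_iff {a : R} : SignType.sign a ≠ -1 ↔ 0 ≤ a := by
  simp [sign_eq_neg_one_iff]

lemma coroot'_zero_iff {ξ : M} (h : ξ ∈ F.carrier) (i : ι) : P.coroot' i ξ = 0 ↔ F.sgn i = 0 := by
  rw [← sgn_eq_of_mem h, sign_eq_zero_iff]

lemma coroot'_pos_iff {ξ : M} (h : ξ ∈ F.carrier) (i : ι) : 0 < P.coroot' i ξ ↔ F.sgn i = 1 := by
  rw [← sgn_eq_of_mem h, sign_eq_one_iff]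

lemma coroot'_nonneg_iff {ξ : M} (h : ξ ∈ F.carrier) (i : ι) :
    0 ≤ P.coroot' i ξ ↔ F.sgn i ≠ -1 := by
  rw [← sgn_eq_of_mem h, sign_ne_neg_one_iff]

lemma mem_cham_iff {b : P.Base} : b ∈ F.cham ↔ ∀ j ∈ b.support, F.sgn j ≠ -1 := by
  refine ⟨fun h j hj => ?_, fun h ξ hξ j hj => (coroot'_nonneg_iff hξ j).2 (h j hj)⟩
  obtain ⟨ξ, hξ⟩ := carrier_nonempty F
  exact (coroot'_nonneg_iff hξ j).1 (h hξ j hj)

lemma mem_cham_of_mem_carrier {b : P.Base} {ξ : M} (hξ : ξ ∈ F.carrier)
    (h : ξ ∈ closedChamber b) : b ∈ F.cham :=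
  mem_cham_iff.2 fun j hj => (coroot'_nonneg_iff hξ j).1 (h j hj)

lemma sgn_ne_neg_one {b : P.Base} (hb : b ∈ F.cham) {i : ι} (hi : b.IsPos i) : F.sgn i ≠ -1 := by
  obtain ⟨ξ, hξ⟩ := carrier_nonempty F
  exact (coroot'_nonneg_iff hξ i).1 (coroot'_nonneg_of_isPos (hb hξ) hi)

lemma sgn_eq_one_of_ne_zero {b : P.Base} (hb : b ∈ F.cham) {i : ι} (hi : b.IsPos i)
    (h0 : F.sgn i ≠ 0) : F.sgn i = 1 := by
  have := sgn_ne_neg_one hb hi
  cases h : F.sgn i <;> simp_all

lemma mem_cham_of_le (h : G ≤ F) {b : P.Base} (hb : b ∈ G.cham) : b ∈ F.cham := by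
  refine mem_cham_iff.2 fun j hj => ?_
  rcases h j with h0 | h1
  · rw [h0]; decide
  · rw [h1]; exact mem_cham_iff.1 hb j hj

lemma exists_chamber_near {ξ : M} (η : M) :
    ∃ t : R, 0 < t ∧ Facet.ofVec P (ξ + t • η) ≤ Facet.ofVec P ξ := by
  obtain ⟨t, ht, h⟩ := exists_small (fun i => P.coroot' i ξ) (fun i => P.coroot' i η)
  refine ⟨t, ht, fun i => ?_⟩
  simp only [Facet.ofVec, sgnVec, map_add, map_smul, smul_eq_mul]
  by_cases h0 : P.coroot' i ξ = 0
  · exact Or.inl (by rw [h0, sign_zero])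
  · exact Or.inr (h i h0).symm

lemma exists_mem_closedChamber (ξ : M) : ∃ b : P.Base, ξ ∈ closedChamber b := by
  obtain ⟨b₀⟩ := RootPairing.nonempty_base P
  obtain ⟨t, ht, h⟩ := exists_small (fun i => P.coroot' i ξ) (fun i => P.coroot' i (rho P b₀))
  have hreg : ∀ i, P.coroot' i (ξ + t • rho P b₀) ≠ 0 := by
    intro i
    rw [map_add, map_smul, smul_eq_mul]
    by_cases h0 : P.coroot' i ξ = 0
    · rw [h0, zero_add]
      exact mul_ne_zero ht.ne' (coroot'_rho_ne_zero b₀ i)
    · intro hc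
      have := h i h0
      rw [hc, sign_zero, eq_comm, sign_eq_zero_iff] at this
      exact h0 this
  refine ⟨baseOfWeight _ hreg, fun j hj => ?_⟩
  have hp := baseOfWeight_pos _ hreg j hj
  rw [map_add, map_smul, smul_eq_mul] at hp
  by_contra hn
  push Not at hn
  have := h j hn.ne
  rw [sign_neg hn, sign_pos hp] at this
  exact absurd this (by decide)

lemma exists_cham (F : Facet P) : ∃ b : P.Base, b ∈ F.cham := by
  obtain ⟨ξ, hξ⟩ := carrier_nonempty F
  obtain ⟨b, hb⟩ := exists_mem_closedChamber (P := P) ξ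
  exact ⟨b, mem_cham_of_mem_carrier hξ hb⟩

/-! ### Rigidity of fundamental weights -/

lemma mem_span_of_root'_eq_zero {b : P.Base} {y : N} (hy : Dom b y) {k : ι}
    (hk : P.root' k y = 0) :
    P.root k ∈ Submodule.span R (P.root '' {j | j ∈ b.support ∧ P.root' j y = 0}) := by
  have key : ∀ k, b.IsPos k → 0 ≤ P.root' k y ∧ (P.root' k y = 0 →
      P.root k ∈ Submodule.span R (P.root '' {j | j ∈ b.support ∧ P.root' j y = 0})) := by
    intro k hk
    refine hk.induction_on_add (p := fun k => 0 ≤ P.root' k y ∧ (P.root' k y = 0 →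
      P.root k ∈ Submodule.span R (P.root '' {j | j ∈ b.support ∧ P.root' j y = 0})))
      (fun j hj => ⟨hy j hj, fun h0 => Submodule.subset_span (mem_image_of_mem _ ⟨hj, h0⟩)⟩) ?_
    intro i j l hl hi hj
    rw [root'_add hl]
    refine ⟨add_nonneg hi.1 (hy j hj), fun h0 => ?_⟩
    rw [add_eq_zero_iff_of_nonneg hi.1 (hy j hj)] at h0
    rw [hl]
    exact Submodule.add_mem _ (hi.2 h0.1) (Submodule.subset_span (mem_image_of_mem _ ⟨hj, h0.2⟩))
  by_cases hp : b.IsPos k
  · exact (key k hp).2 hk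
  · have := (key _ ((isPos_neg_iff b k).2 hp)).2 (by rw [root'_neg, hk, neg_zero])
    rwa [root_neg, Submodule.neg_mem_iff] at this

lemma exists_int_coroot' (b : P.Base) (i : b.support) (j : ι) :
    ∃ z : ℤ, P.coroot' j (fundWeight b i) = (z : R) := by
  classical
  have h := b.coroot_mem_span_int j
  suffices ∀ x ∈ Submodule.span ℤ (P.coroot '' b.support),
      ∃ z : ℤ, P.toLinearMap (fundWeight b i) x = (z : R) from this _ h
  intro x hx
  induction hx using Submodule.span_induction with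
  | mem x hx =>
    obtain ⟨k, hk, rfl⟩ := hx
    refine ⟨if k = i then 1 else 0, ?_⟩
    exact (coroot'_fundWeight b i k hk).trans (by split <;> simp)
  | zero => exact ⟨0, by simp⟩
  | add x y _ _ hx hy =>
    obtain ⟨z, hz⟩ := hx
    obtain ⟨z', hz'⟩ := hy
    exact ⟨z + z', by rw [map_add, hz, hz', Int.cast_add]⟩
  | smul c x _ hx =>
    obtain ⟨z, hz⟩ := hx
    exact ⟨c * z, by rw [map_zsmul, hz, zsmul_eq_mul, Int.cast_mul]⟩

lemma fundWeight_rigid {b : P.Base} {m : M} (hm : m ∈ fundWeights P) (hc : m ∈ closedChamber b) :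
    ∃ i : b.support, fundWeight b i = m := by
  classical
  obtain ⟨b', i', rfl⟩ := hm
  set m := fundWeight b' i' with hmdef
  let J : Finset ι := b.support.filter fun j => P.coroot' j m = 0
  have hsub : ∀ k : ↥(b'.support.erase (i' : ι)),
      P.root k ∈ Submodule.span R ((J.image P.root : Finset M) : Set M) := by
    rintro ⟨k, hk⟩
    rw [Finset.mem_erase] at hk
    have h0 : P.root' k (pol P m) = 0 := by
      rw [root'_pol_eq_zero_iff, hmdef, coroot'_fundWeight b' i' k hk.2, if_neg hk.1]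
    refine Submodule.span_mono ?_ (mem_span_of_root'_eq_zero ((mem_closedChamber_iff b m).1 hc) h0)
    rintro - ⟨j, ⟨hj, hj0⟩, rfl⟩
    rw [Finset.coe_image]
    exact mem_image_of_mem _ (Finset.mem_coe.2 (Finset.mem_filter.2
      ⟨hj, (root'_pol_eq_zero_iff j m).1 hj0⟩))
  have hcard : (b'.support.erase (i' : ι)).card ≤ J.card := by
    have hli : LinearIndependent R fun k : ↥(b'.support.erase (i' : ι)) => P.root k :=
      b'.linearIndepOn_root.mono (Finset.coe_subset.2 (Finset.erase_subset _ _))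
    have := linearIndependent_le_span_aux' (fun k : ↥(b'.support.erase (i' : ι)) => P.root k) hli
      ((J.image P.root : Finset M) : Set M) (by rintro - ⟨k, rfl⟩; exact hsub k)
    simp only [Fintype.card_coe, Finset.coe_sort_coe] at this
    exact this.trans Finset.card_image_le
  have hn : b'.support.card = b.support.card := by
    rw [← Fintype.card_coe b'.support, ← Fintype.card_coe b.support,
      ← finrank_eq_card_basis b'.toWeightBasis, ← finrank_eq_card_basis b.toWeightBasis]
  rw [Finset.card_erase_of_mem i'.2, hn] at hcard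
  have hex : ∃ j ∈ b.support, P.coroot' j m ≠ 0 := by
    by_contra h
    push Not at h
    exact fundWeight_ne_zero b' i' (ext_M b fun j hj => by rw [map_zero]; exact h j hj)
  obtain ⟨j, hj, hj0⟩ := hex
  have huniq : ∀ l ∈ b.support, P.coroot' l m ≠ 0 → l = j := by
    intro l hl hl0
    by_contra hne
    have hJ : J ⊆ (b.support.erase j).erase l := by
      intro a ha
      rw [Finset.mem_filter] at ha
      simp only [Finset.mem_erase]
      exact ⟨fun e => hl0 (e ▸ ha.2), fun e => hj0 (e ▸ ha.2), ha.1⟩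
    have h1 := Finset.card_le_card hJ
    rw [Finset.card_erase_of_mem (Finset.mem_erase.2 ⟨hne, hl⟩),
      Finset.card_erase_of_mem hj] at h1
    have h2 : 1 < b.support.card := Finset.one_lt_card.2 ⟨l, hl, j, hj, hne⟩
    omega
  have hmj : m = P.coroot' j m • fundWeight b ⟨j, hj⟩ := by
    refine ext_M b fun l hl => ?_
    rw [map_smul, coroot'_fundWeight b _ l hl, smul_eq_mul]
    by_cases hlj : l = j
    · rw [if_pos hlj, mul_one, hlj]
    · rw [if_neg hlj, mul_zero]
      by_contra h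
      exact hlj (huniq l hl h)
  obtain ⟨z, hz⟩ := exists_int_coroot' b' i' j
  obtain ⟨z', hz'⟩ := exists_int_coroot' b ⟨j, hj⟩ i'
  have h1 : P.coroot' j m * (z' : R) = 1 := by
    rw [← hz']
    have := congrArg (P.coroot' i') hmj
    rw [map_smul, smul_eq_mul, hmdef, coroot'_fundWeight_self] at this
    rw [hmdef]; exact this.symm
  have hpos : 0 ≤ P.coroot' j m := hc j hj
  rw [hmdef, hz] at h1 hpos
  have hzi : z * z' = 1 := by exact_mod_cast h1
  have hz1 : z = 1 := by
    have h0 : 0 ≤ z := by exact_mod_cast hpos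
    rcases Int.mul_eq_one_iff_eq_one_or_neg_one.1 hzi with h | h <;> omega
  refine ⟨⟨j, hj⟩, ?_⟩
  rw [hmdef, hz, hz1, Int.cast_one, one_smul] at hmj
  rw [hmdef]
  exact hmj.symm

lemma baseCorners_eq (b : P.Base) : baseCorners b = range (fundWeight b) := by
  ext m
  constructor
  · rintro ⟨hm, hc⟩
    exact fundWeight_rigid hm hc
  · rintro ⟨i, rfl⟩
    refine ⟨⟨b, i, rfl⟩, fun j hj => ?_⟩
    classical
    rw [coroot'_fundWeight b i j hj]
    split <;> simp

/-! ### Sign vectors -/

lemma sgnVec_eq_of_simple {b : P.Base} {ξ η : M} (hξ : ξ ∈ closedChamber b)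
    (h : ∀ j ∈ b.support, SignType.sign (P.coroot' j ξ) = SignType.sign (P.coroot' j η)) :
    sgnVec P ξ = sgnVec P η := by
  have hη : ∀ j ∈ b.support, 0 ≤ P.coroot' j η := fun j hj => by
    rw [← sign_ne_neg_one_iff, ← h j hj, sign_ne_neg_one_iff]
    exact hξ j hj
  rw [sgnVec_eq_cosgnVec, sgnVec_eq_cosgnVec]
  funext k
  have hx : Dom b (pol P ξ) := (mem_closedChamber_iff b ξ).1 hξ
  have hy : Dom b (pol P η) := (mem_closedChamber_iff b η).1 hη
  have hsimp : ∀ j ∈ b.support, (P.root' j (pol P ξ) = 0 ↔ P.root' j (pol P η) = 0) := fun j hj => by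
    rw [root'_pol_eq_zero_iff, root'_pol_eq_zero_iff, ← sign_eq_zero_iff, h j hj, sign_eq_zero_iff]
  have key : ∀ k, b.IsPos k → 0 ≤ P.root' k (pol P ξ) ∧ 0 ≤ P.root' k (pol P η) ∧
      (P.root' k (pol P ξ) = 0 ↔ P.root' k (pol P η) = 0) := fun k hk =>
    hk.induction_on_add (p := fun k => 0 ≤ P.root' k (pol P ξ) ∧ 0 ≤ P.root' k (pol P η) ∧
      (P.root' k (pol P ξ) = 0 ↔ P.root' k (pol P η) = 0))
      (fun j hj => ⟨hx j hj, hy j hj, hsimp j hj⟩) fun i j l hl hi hj => by
        rw [root'_add hl, root'_add hl]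
        refine ⟨add_nonneg hi.1 (hx j hj), add_nonneg hi.2.1 (hy j hj), ?_⟩
        rw [add_eq_zero_iff_of_nonneg hi.1 (hx j hj), add_eq_zero_iff_of_nonneg hi.2.1 (hy j hj),
          hi.2.2, hsimp j hj]
  have signeq : ∀ a c : R, 0 ≤ a → 0 ≤ c → (a = 0 ↔ c = 0) →
      SignType.sign a = SignType.sign c := by
    intro a c ha hc he
    rcases eq_or_lt_of_le ha with e | l
    · rw [← e, (he.1 e.symm)]
    · rw [sign_pos l, sign_pos (lt_of_le_of_ne hc fun e => l.ne' (he.2 e.symm))]
  simp only [cosgnVec]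
  by_cases hp : b.IsPos k
  · obtain ⟨a, c, e⟩ := key k hp
    exact signeq _ _ a c e
  · obtain ⟨a, c, e⟩ := key _ ((isPos_neg_iff b k).2 hp)
    have := signeq _ _ a c e
    rw [root'_neg, root'_neg, Left.sign_neg, Left.sign_neg] at this
    exact neg_injective this

lemma mem_carrier_iff {b : P.Base} (hb : b ∈ F.cham) {η : M} :
    η ∈ F.carrier ↔ ∀ j ∈ b.support, SignType.sign (P.coroot' j η) = F.sgn j := by
  refine ⟨fun h j _ => sgn_eq_of_mem h j, fun h => ?_⟩
  obtain ⟨ξ, hξ⟩ := carrier_nonempty F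
  refine (sgnVec_eq_of_simple (η := η) (hb hξ) fun j hj => ?_).symm.trans hξ
  rw [sgn_eq_of_mem hξ, h j hj]

lemma sgn_simple {b : P.Base} (hb : b ∈ F.cham) (j : b.support) :
    F.sgn j = 0 ∨ F.sgn j = 1 := by
  by_cases h : F.sgn j = 0
  · exact Or.inl h
  · exact Or.inr (sgn_eq_one_of_ne_zero hb (RootPairing.Base.isPos_of_mem_support j.2) h)

lemma mem_closure_iff {b : P.Base} (hb : b ∈ F.cham) {η : M} :
    η ∈ F.closure ↔ ∀ j ∈ b.support, 0 ≤ P.coroot' j η ∧ (F.sgn j = 0 → P.coroot' j η = 0) := by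
  refine ⟨fun h j hj => ?_, fun h i => ?_⟩
  · rcases h j with h0 | h1
    · rw [sgnVec, sign_eq_zero_iff] at h0
      exact ⟨h0.ge, fun _ => h0⟩
    · refine ⟨?_, fun e => ?_⟩
      · rw [← sign_ne_neg_one_iff]
        exact fun e => mem_cham_iff.1 hb j hj (h1 ▸ e)
      · rw [sgnVec, e, sign_eq_zero_iff] at h1
        exact h1
  · obtain ⟨ξ, hξ⟩ := carrier_nonempty F
    obtain ⟨t, ht, hle⟩ := exists_chamber_near (P := P) (ξ := η) ξ
    have hmem : η + t • ξ ∈ F.carrier := by
      refine (mem_carrier_iff hb).2 fun j hj => ?_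
      rw [map_add, map_smul, smul_eq_mul]
      rcases sgn_simple hb ⟨j, hj⟩ with e | e <;> simp only at e
      · rw [(h j hj).2 e, (coroot'_zero_iff hξ j).2 e, mul_zero, add_zero, sign_zero, e]
      · rw [e, sign_pos]
        have := mul_pos ht ((coroot'_pos_iff hξ j).2 e)
        linarith [(h j hj).1]
    rcases hle i with h0 | h1
    · exact Or.inl h0
    · exact Or.inr (h1.trans (congrFun hmem i))

lemma mem_corners_iff {b : P.Base} (hb : b ∈ F.cham) {m : M} :
    m ∈ F.corners ↔ ∃ i : b.support, F.sgn i ≠ 0 ∧ fundWeight b i = m := by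
  classical
  constructor
  · rintro ⟨hm, hcl⟩
    have h := (mem_closure_iff hb).1 hcl
    obtain ⟨i, rfl⟩ := fundWeight_rigid hm (fun j hj => (h j hj).1)
    refine ⟨i, fun e => ?_, rfl⟩
    have := (h i i.2).2 e
    rw [coroot'_fundWeight_self] at this
    exact one_ne_zero this
  · rintro ⟨i, hi, rfl⟩
    refine ⟨⟨b, i, rfl⟩, (mem_closure_iff hb).2 fun j hj => ?_⟩
    rw [coroot'_fundWeight b i j hj]
    split
    · rename_i e
      exact ⟨zero_le_one, fun h0 => absurd (e ▸ h0) hi⟩
    · exact ⟨le_rfl, fun _ => rfl⟩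

lemma coroot'_corner_self {b : P.Base} (i : b.support) : P.coroot' i (fundWeight b i) = 1 :=
  coroot'_fundWeight_self b i

lemma mem_span_corners_iff {b : P.Base} (hb : b ∈ F.cham) {η : M} :
    η ∈ Submodule.span R F.corners ↔
      ∀ j ∈ b.support, F.sgn j = 0 → P.coroot' j η = 0 := by
  classical
  constructor
  · intro h j hj h0
    induction h using Submodule.span_induction with
    | mem m hm =>
      obtain ⟨i, hi, rfl⟩ := (mem_corners_iff hb).1 hm
      rw [coroot'_fundWeight b i j hj, if_neg]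
      intro e
      exact hi (e ▸ h0)
    | zero => rw [map_zero]
    | add x y _ _ hx hy => rw [map_add, hx, hy, add_zero]
    | smul c x _ hx => rw [map_smul, hx, smul_zero]
  · intro h
    rw [expansion b η]
    refine Submodule.sum_mem _ fun i _ => ?_
    by_cases hi : F.sgn i = 0
    · rw [h i i.2 hi, zero_smul]
      exact Submodule.zero_mem _
    · exact Submodule.smul_mem _ _ (Submodule.subset_span ((mem_corners_iff hb).2 ⟨i, hi, rfl⟩))

lemma carrier_subset_span_corners : F.carrier ⊆ Submodule.span R F.corners := by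
  intro η hη
  obtain ⟨b, hb⟩ := exists_cham F
  exact (mem_span_corners_iff hb).2 fun j _ h0 => (coroot'_zero_iff hη j).2 h0

lemma span_carrier_eq : Submodule.span R F.carrier = Submodule.span R F.corners := by
  refine le_antisymm (Submodule.span_le.2 carrier_subset_span_corners)
    (Submodule.span_le.2 fun m hm => ?_)
  obtain ⟨b, hb⟩ := exists_cham F
  obtain ⟨ξ, hξ⟩ := carrier_nonempty F
  have hadd : ξ + m ∈ F.carrier := by
    refine (mem_carrier_iff hb).2 fun j hj => ?_
    obtain ⟨h0, hz⟩ := (mem_closure_iff hb).1 hm.2 j hj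
    rw [map_add]
    rcases sgn_simple hb ⟨j, hj⟩ with e | e <;> simp only at e
    · rw [(coroot'_zero_iff hξ j).2 e, hz e, add_zero, sign_zero, e]
    · rw [e, sign_pos]
      linarith [(coroot'_pos_iff hξ j).2 e]
  simpa using Submodule.sub_mem _ (Submodule.subset_span hadd) (Submodule.subset_span hξ)

lemma facet_eq_of_carrier {ξ : M} (hF : ξ ∈ F.carrier) (hG : ξ ∈ G.carrier) : F = G :=
  Facet.ext (hF.symm.trans hG)

lemma facet_eq_of_corners (h : F.corners = G.corners) : F = G := by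
  classical
  obtain ⟨b, hb⟩ := exists_cham F
  obtain ⟨ξ, hξ⟩ := carrier_nonempty G
  have h2 : ξ ∈ Submodule.span R F.corners := h ▸ carrier_subset_span_corners hξ
  obtain ⟨c, hc⟩ := exists_cham G
  have hbG : b ∈ G.cham := by
    refine mem_cham_of_mem_carrier hξ fun j hj => ?_
    by_contra hneg
    push Not at hneg
    have hj1 : F.sgn j ≠ 0 := fun e => hneg.ne ((mem_span_corners_iff hb).1 h2 j hj e)
    have hmem : fundWeight b ⟨j, hj⟩ ∈ G.corners := h ▸ (mem_corners_iff hb).2 ⟨⟨j, hj⟩, hj1, rfl⟩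
    rcases hmem.2 j with e | e
    · rw [sgnVec, sign_eq_zero_iff] at e
      exact one_ne_zero ((coroot'_corner_self ⟨j, hj⟩).symm.trans e)
    · rw [sgnVec, coroot'_corner_self (b := b) ⟨j, hj⟩, sign_one, ← sgn_eq_of_mem hξ,
        sign_neg hneg] at e
      exact absurd e (by decide)
  refine facet_eq_of_carrier (ξ := ξ) ((mem_carrier_iff hb).2 fun j hj => ?_) hξ
  rw [sgn_eq_of_mem hξ]
  have hiff : F.sgn j = 0 ↔ G.sgn j = 0 := by
    rw [← not_iff_not]
    refine ⟨fun hne => ?_, fun hne => ?_⟩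
    · obtain ⟨i, hi, he⟩ :=
        (mem_corners_iff hbG).1 (h ▸ (mem_corners_iff hb).2 ⟨⟨j, hj⟩, hne, rfl⟩)
      have e := fundWeight_injective b he
      subst e
      exact hi
    · obtain ⟨i, hi, he⟩ :=
        (mem_corners_iff hb).1 (h.symm ▸ (mem_corners_iff hbG).2 ⟨⟨j, hj⟩, hne, rfl⟩)
      have e := fundWeight_injective b he
      subst e
      exact hi
  rcases sgn_simple hb ⟨j, hj⟩ with e | e <;> rcases sgn_simple hbG ⟨j, hj⟩ with e' | e' <;>
    simp_all

end Groth.Agent.RootChLib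

end
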