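import Groth.Agent.RootChLib.Facets
import Groth.Prelude.Def_RootCh2
set_option linter.unusedSectionVars false
set_option linter.style.haveILetI false
set_option linter.unusedSimpArgs false

/-!
Corresponding coweights, parabolic sets, elementary sets of roots.
-/

noncomputable section

open Module Set RootCh

namespace Groth.Agent.RootChLib

universe u v w x

variable {ι : Type u} {R : Type v} {M : Type w} {N : Type x}
variable [Field R] [LinearOrder R] [IsStrictOrderedRing R]
variable [AddCommGroup M] [Module R M] [AddCommGroup N] [Module R N] [Finite ι]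
variable {P : RootPairing ι R M N} [P.IsRootSystem] [P.IsCrystallographic] [P.IsReduced]
variable {F G : Facet P}

lemma fundCoweight_eq (b : P.Base) (i : b.support) :
    fundCoweight b i = (2 / qn P (i : ι)) • pol P (fundWeight b i) := by
  classical
  refine ext_N b fun j hj => ?_
  rw [map_smul, smul_eq_mul, root'_pol, root'_fundCoweight b i j hj,
    coroot'_fundWeight b i j hj]
  split
  · rename_i e
    rw [e]
    have := (qn_pos (P := P) (i : ι)).ne'
    field_simp
  · simp

lemma corr_pol {m : M} {y : N} (h : Corr P m y) : ∃ k : R, 0 < k ∧ y = k • pol P m := by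
  obtain ⟨b, i, rfl, rfl⟩ := h
  exact ⟨2 / qn P (i : ι), div_pos two_pos (qn_pos _), fundCoweight_eq b i⟩

lemma mem_fundWeights_of_corr {m : M} {y : N} (h : Corr P m y) : m ∈ fundWeights P := by
  obtain ⟨b, i, rfl, rfl⟩ := h
  exact ⟨b, i, rfl⟩

lemma corr_eq_fundCoweight {b : P.Base} {i : b.support} {y : N} (h : Corr P (fundWeight b i) y) :
    y = fundCoweight b i := by
  classical
  obtain ⟨b', i', he, rfl⟩ := h
  have hy : fundCoweight b' i' = (2 / qn P (i' : ι)) • pol P (fundWeight b i) := by
    rw [fundCoweight_eq, he]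
  have hk : 0 < 2 / qn P (i' : ι) := div_pos two_pos (qn_pos _)
  have hdom : fundCoweight b' i' ∈ closedChamber (P := P.flip) b.flip := by
    intro j hj
    change 0 ≤ P.root' j (fundCoweight b' i')
    rw [hy, map_smul, smul_eq_mul]
    refine mul_nonneg hk.le ((root'_pol_nonneg_iff j _).2 ?_)
    rw [coroot'_fundWeight b i j hj]
    split <;> simp
  obtain ⟨j, hj⟩ := fundWeight_rigid (P := P.flip) (b := b.flip)
    (m := fundCoweight b' i') ⟨b'.flip, i', rfl⟩ hdom
  have hji : (j : ι) = i := by
    by_contra hne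
    have h0 : P.root' i (fundCoweight b' i') = 0 := by
      rw [← hj]
      exact (root'_fundCoweight b ⟨j, j.2⟩ i i.2).trans (if_neg fun e => hne e.symm)
    rw [hy, map_smul, smul_eq_mul, mul_eq_zero_iff_left hk.ne', root'_pol_eq_zero_iff,
      coroot'_fundWeight_self] at h0
    exact one_ne_zero h0
  obtain ⟨j, hjs⟩ := j
  simp only at hji
  subst hji
  exact hj.symm

lemma corr_unique {m : M} {y y' : N} (h : Corr P m y) (h' : Corr P m y') : y = y' := by
  obtain ⟨b, i, rfl, rfl⟩ := h
  exact (corr_eq_fundCoweight h').symm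

lemma exists_corr {m : M} (h : m ∈ fundWeights P) : ∃ y, Corr P m y := by
  obtain ⟨b, i, rfl⟩ := h
  exact ⟨_, b, i, rfl, rfl⟩

lemma cosgnVec_smul {k : R} (hk : 0 < k) (y : N) : cosgnVec P (k • y) = cosgnVec P y := by
  funext i
  simp only [cosgnVec, map_smul, smul_eq_mul, sign_mul, sign_pos hk, one_mul]

lemma cosgnVec_corr {m : M} {y : N} (h : Corr P m y) : cosgnVec P y = sgnVec P m := by
  obtain ⟨k, hk, rfl⟩ := corr_pol h
  rw [cosgnVec_smul hk, sgnVec_eq_cosgnVec]

lemma corr_flip {y : N} (h : y ∈ fundCoweights P) : ∃ m, Corr P m y := by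
  obtain ⟨b', i, rfl⟩ := h
  exact ⟨fundWeight (P := P) b'.flip i, b'.flip, i, rfl, rfl⟩

lemma mem_fundCoweights_of_corr {m : M} {y : N} (h : Corr P m y) : y ∈ fundCoweights P := by
  obtain ⟨b, i, rfl, rfl⟩ := h
  exact ⟨b.flip, i, rfl⟩

lemma mem_dualCarrier_iff {ξ : M} : pol P ξ ∈ F.dualCarrier ↔ ξ ∈ F.carrier := by
  rw [Facet.dualCarrier, Facet.carrier, mem_setOf_eq, mem_setOf_eq, sgnVec_eq_cosgnVec]

lemma dualCarrier_eq : F.dualCarrier = pol P '' F.carrier := by
  ext y
  obtain ⟨ξ, rfl⟩ := (pol_bijective (P := P)).2 y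
  rw [mem_dualCarrier_iff, (pol_injective (P := P)).mem_set_image]

lemma span_dualCarrier :
    Submodule.span R F.dualCarrier = (Submodule.span R F.corners).map (pol P) := by
  rw [dualCarrier_eq, ← Submodule.map_span, span_carrier_eq]

lemma dualCorners_eq : F.dualCorners = {y : N | ∃ m ∈ F.corners, Corr P m y} := by
  ext y
  constructor
  · rintro ⟨hy, hcl⟩
    obtain ⟨m, hm⟩ := corr_flip hy
    refine ⟨m, ⟨mem_fundWeights_of_corr hm, fun i => ?_⟩, hm⟩
    have := hcl i
    rwa [cosgnVec_corr hm] at this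
  · rintro ⟨m, hm, hc⟩
    refine ⟨mem_fundCoweights_of_corr hc, fun i => ?_⟩
    rw [cosgnVec_corr hc]
    exact hm.2 i

/-! ### Parabolic sets -/

lemma mem_parab_iff {ξ : M} (h : ξ ∈ F.carrier) (k : ι) :
    k ∈ F.parab ↔ 0 ≤ P.root' k (pol P ξ) := by
  rw [root'_pol_nonneg_iff, coroot'_nonneg_iff h]
  rfl

lemma isParabolic_parab (F : Facet P) : IsParabolicSubset P F.parab := by
  obtain ⟨ξ, hξ⟩ := carrier_nonempty F
  constructor
  · intro i j k hi hj hk
    rw [mem_parab_iff hξ] at hi hj ⊢
    rw [root'_add hk]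
    exact add_nonneg hi hj
  · intro i
    rw [mem_parab_iff hξ, mem_parab_iff hξ, root'_neg, neg_nonneg]
    exact le_total _ _

lemma neg_mem_parab {i : ι} : P.reflectionPerm i i ∈ F.parab ↔ F.sgn i ≠ 1 := by
  simp only [Facet.parab, mem_setOf_eq, sgn_neg, ne_eq, neg_inj]

lemma le_iff_parab : F ≤ G ↔ F.parab ⊆ G.parab := by
  constructor
  · intro h i hi
    rcases h i with e | e
    · simp [Facet.parab, e]
    · simpa [Facet.parab, e] using hi
  · intro h i
    have h1 := @h i
    have h2 := @h (P.reflectionPerm i i)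
    rw [neg_mem_parab, neg_mem_parab] at h2
    simp only [Facet.parab, mem_setOf_eq] at h1
    cases eF : F.sgn i <;> cases eG : G.sgn i <;> simp_all

lemma parab_injective (h : F.parab = G.parab) : F = G :=
  le_antisymm (le_iff_parab.2 h.subset) (le_iff_parab.2 h.symm.subset)

lemma corners_eq_setOf (F : Facet P) :
    F.corners = {m : M | m ∈ fundWeights P ∧
      ∀ y : N, Corr P m y → ∀ i ∈ F.parab, 0 ≤ P.root' i y} := by
  ext m
  refine and_congr_right fun hm => ?_
  have hle : m ∈ F.closure ↔ F.parab ⊆ (Facet.ofVec P m).parab := by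
    rw [← le_iff_parab]
    rfl
  rw [hle]
  constructor
  · intro h y hy i hi
    obtain ⟨k, hk, rfl⟩ := corr_pol hy
    have := (mem_parab_iff (F := Facet.ofVec P m) (ξ := m) rfl i).1 (h hi)
    rw [map_smul, smul_eq_mul]
    exact mul_nonneg hk.le this
  · intro h i hi
    obtain ⟨y, hy⟩ := exists_corr hm
    have := h y hy i hi
    obtain ⟨k, hk, rfl⟩ := corr_pol hy
    rw [map_smul, smul_eq_mul, mul_nonneg_iff_of_pos_left hk] at this
    exact (mem_parab_iff (F := Facet.ofVec P m) (ξ := m) rfl i).2 this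

lemma coroot'_reflection_apply (i k : ι) (ξ : M) :
    P.coroot' k (P.reflection i ξ) = P.coroot' (P.reflectionPerm i k) ξ :=
  (P.coroot'_reflection ξ).trans rfl

lemma exists_isPos_subset {S : Set ι} (hS : IsParabolicSubset P S) :
    ∃ b : P.Base, ∀ k, b.IsPos k → k ∈ S := by
  have : Finite P.Base := finite_base
  have : Nonempty P.Base := RootPairing.nonempty_base P
  obtain ⟨b, hb⟩ := Finite.exists_max fun b : P.Base => {k | k ∈ S ∧ b.IsPos k}.ncard
  refine ⟨b, fun k hk => ?_⟩
  suffices hsimple : ∀ j ∈ b.support, j ∈ S from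
    hk.induction_on_add (p := fun k => k ∈ S) hsimple fun i j l hl hi hj =>
      hS.1 i j l hi (hsimple j hj) hl
  intro j hj
  by_contra hjS
  have hneg := (hS.2 j).resolve_left hjS
  have hreg : ∀ i, P.coroot' i (P.reflection j (rho P b)) ≠ 0 := fun i => by
    rw [coroot'_reflection_apply]
    exact coroot'_rho_ne_zero b _
  let b2 := baseOfWeight _ hreg
  have hpos : ∀ i, b2.IsPos i ↔ b.IsPos (P.reflectionPerm j i) := fun i => by
    rw [isPos_iff_coroot'_pos (baseOfWeight_pos _ hreg) i, coroot'_reflection_apply,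
      ← isPos_iff_coroot'_pos (b := b) (ξ := rho P b)
        (fun l hl => by rw [coroot'_rho b l hl]; exact one_pos)]
  have hlt : {k | k ∈ S ∧ b.IsPos k} ⊂ {k | k ∈ S ∧ b2.IsPos k} := by
    rw [ssubset_iff_of_subset]
    · refine ⟨P.reflectionPerm j j, ⟨hneg, (hpos _).2 ?_⟩, fun h => (isPos_neg_iff b j).1 h.2
        (RootPairing.Base.isPos_of_mem_support hj)⟩
      rw [P.reflectionPerm_self]
      exact RootPairing.Base.isPos_of_mem_support hj
    · rintro i ⟨hi, hip⟩
      exact ⟨hi, (hpos i).2 (hip.reflectionPerm hj (fun e => hjS (e ▸ hi)))⟩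
  exact absurd (hb b2) (not_le.2 (Set.ncard_lt_ncard hlt))

lemma exists_parab_eq {S : Set ι} (hS : IsParabolicSubset P S) : ∃ F : Facet P, F.parab = S := by
  classical
  obtain ⟨b, hb⟩ := exists_isPos_subset hS
  let ξ : M := ∑ i : b.support, (if P.reflectionPerm i i ∈ S then (0 : R) else 1) • fundWeight b i
  have hc : ∀ j ∈ b.support,
      P.coroot' j ξ = if P.reflectionPerm j j ∈ S then (0 : R) else 1 := fun j hj =>
    coroot'_sum_smul b (fun i => if P.reflectionPerm i i ∈ S then (0 : R) else 1) ⟨j, hj⟩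
  have h0 : ∀ j ∈ b.support, 0 ≤ P.root' j (pol P ξ) := fun j hj => by
    rw [root'_pol_nonneg_iff, hc j hj]
    split <;> simp
  have key : ∀ k, b.IsPos k → 0 ≤ P.root' k (pol P ξ) ∧ k ∈ S ∧
      (P.reflectionPerm k k ∈ S ↔ P.root' k (pol P ξ) = 0) := fun k hk =>
    hk.induction_on_add (p := fun k => 0 ≤ P.root' k (pol P ξ) ∧ k ∈ S ∧
      (P.reflectionPerm k k ∈ S ↔ P.root' k (pol P ξ) = 0))
      (fun j hj => by
        refine ⟨h0 j hj, hb j (RootPairing.Base.isPos_of_mem_support hj), ?_⟩
        rw [root'_pol_eq_zero_iff, hc j hj]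
        by_cases h : P.reflectionPerm j j ∈ S <;> simp [h])
      fun i j l hl hi hj => by
        have hjS := hb j (RootPairing.Base.isPos_of_mem_support hj)
        have hjiff : P.reflectionPerm j j ∈ S ↔ P.root' j (pol P ξ) = 0 := by
          rw [root'_pol_eq_zero_iff, hc j hj]
          by_cases h : P.reflectionPerm j j ∈ S <;> simp [h]
        refine ⟨by rw [root'_add hl]; exact add_nonneg hi.1 (h0 j hj),
          hS.1 i j l hi.2.1 hjS hl, ?_⟩
        rw [root'_add hl, add_eq_zero_iff_of_nonneg hi.1 (h0 j hj), ← hi.2.2, ← hjiff]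
        constructor
        · intro hnl
          exact ⟨hS.1 _ j _ hnl hjS (by rw [root_neg, root_neg, hl]; abel),
            hS.1 _ i _ hnl hi.2.1 (by rw [root_neg, root_neg, hl]; abel)⟩
        · rintro ⟨h1, h2⟩
          exact hS.1 _ _ _ h1 h2 (by rw [root_neg, root_neg, root_neg, hl]; abel)
  refine ⟨Facet.ofVec P ξ, Set.ext fun k => ?_⟩
  rw [mem_parab_iff (F := Facet.ofVec P ξ) (ξ := ξ) rfl]
  by_cases hp : b.IsPos k
  · exact iff_of_true (key k hp).1 (key k hp).2.1
  · obtain ⟨k1, k2, k3⟩ := key _ ((isPos_neg_iff b k).2 hp)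
    rw [neg_neg_index, root'_neg, neg_eq_zero] at k3
    rw [root'_neg] at k1
    rw [k3]
    exact ⟨fun h => le_antisymm (by linarith) h, fun h => h.ge⟩

/-! ### The sum of the roots of a parabolic set -/

lemma coroot'_sum_root_eq_zero (i : ι) (A : Finset ι)
    (hA : ∀ k ∈ A, P.reflectionPerm i k ∈ A) : P.coroot' i (∑ k ∈ A, P.root k) = 0 := by
  have h1 : P.reflection i (∑ k ∈ A, P.root k) = ∑ k ∈ A, P.root k := by
    rw [map_sum]
    exact Finset.sum_nbij' (P.reflectionPerm i) (P.reflectionPerm i) hA hA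
      (fun k _ => P.reflectionPerm_self i k) (fun k _ => P.reflectionPerm_self i k)
      (fun k _ => (P.root_reflectionPerm i k).symm)
  rw [P.reflection_apply, sub_eq_self] at h1
  exact (smul_eq_zero.1 h1).resolve_right (P.ne_zero i)

variable (F) in
/-- The sum of the roots of the parabolic set of a facet. -/
def sigma : M := ∑ i ∈ (Set.toFinite F.parab).toFinset, P.root i

lemma sgn_reflectionPerm {i : ι} (hi : F.sgn i = 0) (k : ι) :
    F.sgn (P.reflectionPerm i k) = F.sgn k := by
  obtain ⟨ξ, hξ⟩ := carrier_nonempty F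
  have hfix : P.reflection i ξ = ξ := by
    rw [P.reflection_apply, (coroot'_zero_iff hξ i).2 hi, zero_smul, sub_zero]
  rw [← sgn_eq_of_mem hξ, ← sgn_eq_of_mem hξ, ← coroot'_reflection_apply, hfix]

lemma coroot'_root_nonpos {b : P.Base} (hb : b ∈ F.cham) {j k : ι} (hj : j ∈ b.support)
    (hj1 : F.sgn j = 1) (hk : b.IsPos k) (hk0 : F.sgn k = 0) : P.coroot' j (P.root k) ≤ 0 := by
  by_contra hlt
  push Not at hlt
  have hpi : 0 < P.pairingIn ℤ k j := by
    have h := P.algebraMap_pairingIn ℤ k j
    have h' : (0 : R) < (algebraMap ℤ R) (P.pairingIn ℤ k j) := by rw [h]; exact hlt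
    simpa using h'
  have hne : k ≠ j := fun e => by rw [e, hj1] at hk0; exact absurd hk0 (by decide)
  obtain ⟨l, hl⟩ := P.root_sub_root_mem_of_pairingIn_pos hpi hne
  obtain ⟨ξ, hξ⟩ := carrier_nonempty F
  have hl0 : 0 ≤ P.root' l (pol P ξ) :=
    root'_nonneg_of_isPos ((mem_closedChamber_iff b ξ).1 (hb hξ)) (hk.sub hj hl)
  have hk' : P.root' k (pol P ξ) = 0 := (root'_pol_eq_zero_iff k ξ).2 ((coroot'_zero_iff hξ k).2 hk0)
  have hj' : 0 < P.root' j (pol P ξ) := (root'_pol_pos_iff j ξ).2 ((coroot'_pos_iff hξ j).2 hj1)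
  have := root'_add (P := P) (i := l) (j := j) (k := k) (by rw [hl]; abel) (pol P ξ)
  linarith

lemma sigma_mem_carrier : sigma F ∈ F.carrier := by
  classical
  have : Fintype ι := Fintype.ofFinite ι
  obtain ⟨b, hb⟩ := exists_cham F
  refine (mem_carrier_iff hb).2 fun j hj => ?_
  rcases sgn_simple hb ⟨j, hj⟩ with e | e <;> simp only at e
  · rw [e, sign_eq_zero_iff]
    refine coroot'_sum_root_eq_zero j _ fun k hk => ?_
    simp only [Set.Finite.mem_toFinset, Facet.parab, mem_setOf_eq] at hk ⊢
    rwa [sgn_reflectionPerm e]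
  · rw [e, sign_eq_one_iff]
    let pos := Finset.univ.filter fun k => b.IsPos k
    let lev := pos.filter fun k => F.sgn k = 0
    have hdecomp : sigma F = (∑ k ∈ pos, P.root k) - ∑ k ∈ lev, P.root k := by
      unfold sigma
      rw [← Finset.sum_filter_add_sum_filter_not _ (fun k => b.IsPos k) (fun k => P.root k),
        sub_eq_add_neg, ← Finset.sum_neg_distrib]
      congr 1
      · refine Finset.sum_congr (Finset.ext fun k => ?_) fun _ _ => rfl
        simp only [pos, Finset.mem_filter, Set.Finite.mem_toFinset, Finset.mem_univ, true_and,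
          and_iff_right_iff_imp]
        exact fun h => sgn_ne_neg_one hb h
      · refine Finset.sum_nbij' (fun k => P.reflectionPerm k k) (fun k => P.reflectionPerm k k)
          ?_ ?_ (fun k _ => neg_neg_index k) (fun k _ => neg_neg_index k)
          (fun k _ => by rw [root_neg, neg_neg])
        · intro k hk
          simp only [Finset.mem_filter, Set.Finite.mem_toFinset] at hk
          obtain ⟨hk1, hk2⟩ := hk
          have hp := (isPos_neg_iff b k).2 hk2
          simp only [lev, pos, Finset.mem_filter, Finset.mem_univ, true_and]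
          refine ⟨hp, ?_⟩
          have h2 := sgn_ne_neg_one hb hp
          simp only [Facet.parab, mem_setOf_eq] at hk1
          rw [sgn_neg] at h2 ⊢
          cases h : F.sgn k <;> simp_all
        · intro k hk
          simp only [lev, pos, Finset.mem_filter, Finset.mem_univ, true_and] at hk
          simp only [Finset.mem_filter, Set.Finite.mem_toFinset]
          exact ⟨by rw [neg_mem_parab, hk.2]; decide, fun h => (isPos_neg_iff b k).1 h hk.1⟩
    have hjmem : j ∈ pos :=
      Finset.mem_filter.2 ⟨Finset.mem_univ _, RootPairing.Base.isPos_of_mem_support hj⟩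
    rw [hdecomp, map_sub, ← Finset.add_sum_erase _ _ hjmem, map_add,
      coroot'_sum_root_eq_zero j (pos.erase j), P.coroot_root_two, add_zero, map_sum]
    · have hle : ∑ k ∈ lev, P.coroot' j (P.root k) ≤ 0 := Finset.sum_nonpos fun k hk => by
        simp only [lev, pos, Finset.mem_filter, Finset.mem_univ, true_and] at hk
        exact coroot'_root_nonpos hb hj e hk.1 hk.2
      linarith
    · intro k hk
      simp only [pos, Finset.mem_erase, Finset.mem_filter, Finset.mem_univ, true_and] at hk ⊢
      refine ⟨fun e' => ?_, hk.2.reflectionPerm hj hk.1⟩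
      have h := congrArg (P.reflectionPerm j) e'
      rw [P.reflectionPerm_self] at h
      exact (isPos_neg_iff b j).1 (h ▸ hk.2) (RootPairing.Base.isPos_of_mem_support hj)

/-! ### Elementary sets -/

lemma root'_corner_eq_zero {m : M} (hm : m ∈ F.corners) {y : N} (hy : Corr P m y) {i : ι}
    (hi : F.sgn i = 0) : P.root' i y = 0 := by
  have h := hm.2 i
  rw [hi, or_self, sgnVec, sign_eq_zero_iff] at h
  obtain ⟨k, hk, rfl⟩ := corr_pol hy
  rw [map_smul, (root'_pol_eq_zero_iff i m).2 h, smul_zero]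

lemma root'_reflectionPerm (i k : ι) (y : N) :
    P.root' (P.reflectionPerm i k) y = P.root' k y - P.pairing k i * P.root' i y := by
  simp only [RootPairing.root', P.root_reflectionPerm, P.reflection_apply_root, map_sub, map_smul,
    LinearMap.sub_apply, LinearMap.smul_apply, smul_eq_mul]

lemma sum_psi_mem_span (F : Facet P) (m : M) (hm : m ∈ F.corners) :
    (∑ i ∈ (Set.toFinite (F.Psi m)).toFinset, P.root i) ∈ Submodule.span R F.corners := by
  obtain ⟨b, hb⟩ := exists_cham F
  refine (mem_span_corners_iff hb).2 fun j _ h0 => coroot'_sum_root_eq_zero j _ fun k hk => ?_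
  simp only [Set.Finite.mem_toFinset] at hk ⊢
  refine ⟨fun y hy => ?_, fun m' hm' hne y hy => ?_⟩
  · rw [root'_reflectionPerm, root'_corner_eq_zero hm hy h0, mul_zero, sub_zero]
    exact hk.1 y hy
  · rw [root'_reflectionPerm, root'_corner_eq_zero hm' hy h0, mul_zero, sub_zero]
    exact hk.2 m' hm' hne y hy

lemma mem_psi_simple {b : P.Base} (hb : b ∈ F.cham) (j : b.support) :
    (j : ι) ∈ F.Psi (fundWeight b j) := by
  classical
  refine ⟨fun y hy => ?_, fun m' hm' hne y hy => ?_⟩
  · rw [corr_eq_fundCoweight hy]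
    exact root'_fundCoweight_self b j
  · obtain ⟨i, _, rfl⟩ := (mem_corners_iff hb).1 hm'
    rw [corr_eq_fundCoweight hy, root'_fundCoweight b i j j.2,
      if_neg fun e => hne (congrArg _ (Subtype.ext e).symm)]

lemma root'_psi {b : P.Base} (hb : b ∈ F.cham) (j : b.support) (hj : F.sgn j ≠ 0)
    {η : M} (hη : η ∈ Submodule.span R F.corners) {k : ι} (hk : k ∈ F.Psi (fundWeight b j)) :
    P.root' k (pol P η) = P.root' j (pol P η) := by
  induction hη using Submodule.span_induction with
  | mem m hm =>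
    obtain ⟨y, hy⟩ := exists_corr (P := P) hm.1
    have h1 : P.root' k y = P.root' j y := by
      by_cases e : m = fundWeight b j
      · subst e
        rw [hk.1 y hy, (mem_psi_simple hb j).1 y hy]
      · rw [hk.2 m hm e y hy, (mem_psi_simple hb j).2 m hm e y hy]
    obtain ⟨c, hc, rfl⟩ := corr_pol hy
    rw [map_smul, map_smul, smul_eq_mul, smul_eq_mul] at h1
    exact mul_left_cancel₀ hc.ne' h1
  | zero => simp only [map_zero]
  | add x y _ _ hx hy => simp only [map_add, hx, hy]
  | smul c x _ hx => simp only [map_smul, hx]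

end Groth.Agent.RootChLib

end
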